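import Groth.Agent.GIT36.Mu.Line
import Groth.Agent.Tori96.Main
import Groth.Agent.Instab37.GmFamily

/-!
A torus over an algebraically closed field is affine and its functions are spanned by characters.
-/

set_option autoImplicit false
set_option backward.isDefEq.respectTransparency.types false
set_option linter.style.haveILetI false

universe u

open CategoryTheory CategoryTheory.Limits MonoidalCategory CartesianMonoidalCategory MonObj AlgebraicGeometry
  Opposite Groth.Agent.FinSub96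
open scoped TensorProduct

noncomputable section

namespace Groth.Agent.GIT36.Mu

variable {k : Type u} [Field k]

/-- The value of a global function at a rational point. -/
def gv {Z : Over (St k)} (p : Pt k ⟶ Z) : Γ(Z.left, ⊤) →+* k :=
  (Scheme.ΓSpecIso (CommRingCat.of k)).hom.hom.comp p.left.appTop.hom

theorem gv_eq_val {Z : Over (St k)} (p : Pt k ⟶ Z) (s : Γ(Z.left, ⊤)) :
    gv p s = val p (O := (⊤ : Z.left.Opens)) (fun _ _ => trivial) s := by
  rw [val, RingHom.comp_apply, ev_top]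
  rfl

theorem gv_comp {Z W : Over (St k)} (p : Pt k ⟶ Z) (f : Z ⟶ W) (s : Γ(W.left, ⊤)) :
    gv (p ≫ f) s = gv p (f.left.appTop s) := by
  simp [gv]

theorem algebraMap_eq_cst {Z : Over (St k)} (c : k) : algebraMap k Γ(Z.left, ⊤) c = cst Z c := rfl

theorem gv_cst {Z : Over (St k)} (p : Pt k ⟶ Z) (c : k) : gv p (cst Z c) = c := by
  rw [gv, RingHom.comp_apply]
  erw [appTop_cst p c, cst_pt]
  exact Iso.inv_hom_id_apply _ _

/-- An invertible function multiplicative on the rational points. -/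
def IsCharFn {T : Over (St k)} [GrpObj T] (c : Γ(T.left, ⊤)) : Prop :=
  IsUnit c ∧ ∀ s t : Pt k ⟶ T, gv (s * t) c = gv s c * gv t c

theorem IsCharFn.one {T : Over (St k)} [GrpObj T] : IsCharFn (1 : Γ(T.left, ⊤)) :=
  ⟨isUnit_one, fun s t => by simp⟩

theorem IsCharFn.mul {T : Over (St k)} [GrpObj T] {c d : Γ(T.left, ⊤)} (hc : IsCharFn c) (hd : IsCharFn d) :
    IsCharFn (c * d) :=
  ⟨hc.1.mul hd.1, fun s t => by
    rw [map_mul, map_mul, map_mul, hc.2, hd.2]; ring⟩

theorem IsCharFn.gv_one {T : Over (St k)} [GrpObj T] {c : Γ(T.left, ⊤)} (hc : IsCharFn c) :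
    gv (1 : Pt k ⟶ T) c = 1 := by
  have h := hc.2 1 1
  rw [_root_.one_mul] at h
  exact (left_eq_mul₀ (hc.1.map (gv (1 : Pt k ⟶ T))).ne_zero).mp h

/-- The character attached to an invertible multiplicative function. -/
def IsCharFn.hom {T : Over (St k)} [GrpObj T] {c : Γ(T.left, ⊤)} (hc : IsCharFn c) : (Pt k ⟶ T) →* k where
  toFun t := gv t c
  map_one' := hc.gv_one
  map_mul' := hc.2

variable [IsAlgClosed k] {T : Over (St k)} [GrpObj T]

theorem exists_split_field (hT : Red.IsTorus T) :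
    ∃ (n : ℕ) (L : Type u) (_ : Field L) (_ : Algebra k L),
      Red.IsSplitTorusWith (Fin n → ℤ) (Red.bc (Spec.map (CommRingCat.ofHom (algebraMap k L))) T) := by
  obtain ⟨S', f, -, hsurj, -, hloc⟩ := hT
  obtain ⟨s', -⟩ := hsurj.surj (Nonempty.some (inferInstance : Nonempty (PrimeSpectrum k)))
  obtain ⟨U, hU, r, ⟨e⟩⟩ := hloc s'
  let p := U.toScheme.fromSpecResidueField ⟨s', hU⟩
  let L : Type u := U.toScheme.residueField ⟨s', hU⟩
  let φ : CommRingCat.of k ⟶ U.toScheme.residueField ⟨s', hU⟩ := Spec.preimage (p ≫ U.ι ≫ f)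
  letI : Field L := inferInstanceAs (Field (U.toScheme.residueField ⟨s', hU⟩))
  letI : Algebra k L := φ.hom.toAlgebra
  refine ⟨r, L, inferInstance, inferInstance, ?_⟩
  have hg : p ≫ (U.ι ≫ f) = Spec.map (CommRingCat.ofHom (algebraMap k L)) := (Spec.map_preimage _).symm
  obtain ⟨i₁⟩ := Instab37.exists_bcBcIso p (U.ι ≫ f) _ hg T
  obtain ⟨i₂⟩ := Instab37.exists_bcBcIso p (Limits.IsTerminal.from specULiftZIsTerminal U.toScheme)
    (Limits.IsTerminal.from specULiftZIsTerminal _) (specULiftZIsTerminal.hom_ext _ _)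
    (Red.diag (ULift.{u} ℤ) (Fin r → ℤ))
  exact ⟨i₁.symm ≪≫ (Over.pullback p).mapGrp.mapIso e ≪≫ i₂⟩

theorem isAffine_of_isTorus (hT : Red.IsTorus T) : IsAffine T.left := by
  obtain ⟨n, L, _, _, hs⟩ := exists_split_field hT
  exact Tori96.isAffine_of_split hs

theorem span_charFn_eq_top (hT : Red.IsTorus T) :
    Submodule.span k {c : Γ(T.left, ⊤) | IsCharFn c} = ⊤ := by
  classical
  obtain ⟨n, L, _, _, hs⟩ := exists_split_field hT
  have : IsAffine T.left := Tori96.isAffine_of_split hs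
  obtain ⟨Δ, hΔ⟩ := Tori96.exists_comul (T := T)
  obtain ⟨wL, hwL⟩ := Tori96.exists_split hs Δ hΔ
  obtain ⟨F, _, _, hfin, w', hw'⟩ := Tori96.exists_split_finite hwL
  have : Algebra.IsIntegral k F := Algebra.IsIntegral.of_finite k F
  let ρ : F →ₐ[k] k := (AlgEquiv.ofBijective (Algebra.ofId k F) IsAlgClosed.algebraMap_bijective_of_isIntegral).symm
  let w : Fin n → (k ⊗[k] (Γ(T.left, ⊤) : Type u))ˣ := fun i =>
    Units.map (Tori96.mapL (Γ(T.left, ⊤) : Type u) ρ : _ →* _) (w' i)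
  have hw : Tori96.IsSplit Δ w := hw'.map ρ
  let θ : k ⊗[k] (Γ(T.left, ⊤) : Type u) →ₐ[k] (Γ(T.left, ⊤) : Type u) :=
    (Algebra.TensorProduct.lid k (Γ(T.left, ⊤) : Type u)).toAlgHom
  let c : Multiplicative (Fin n → ℤ) → Γ(T.left, ⊤) := fun m =>
    θ ((Tori96.mon w m : (k ⊗[k] (Γ(T.left, ⊤) : Type u))ˣ) : k ⊗[k] (Γ(T.left, ⊤) : Type u))
  have hθ : ∀ (x : (Γ(T.left, ⊤) : Type u) →ₐ[k] k) (z : k ⊗[k] (Γ(T.left, ⊤) : Type u)),
      Tori96.evalAt (AlgHom.id k k) ((Algebra.ofId k k).comp x) z = x (θ z) := by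
    intro x z
    induction z using TensorProduct.induction_on with
    | zero => simp
    | tmul a b => simp [θ, Tori96.evalAt, Algebra.TensorProduct.lid_tmul, Algebra.ofId_apply]
    | add z z' hz hz' => rw [map_add, map_add, map_add, hz, hz']
  have hval : ∀ (x : (Γ(T.left, ⊤) : Type u) →ₐ[k] k) (s : Γ(T.left, ⊤)),
      gv (Tori96.spUnit.inv ≫ Tori96.ofA T x) s = x s := by
    intro x s
    rw [gv_comp]
    have h1 : (Tori96.ofA T x).left.appTop s = toSec (K := k) k (x s) := by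
      have h := congrArg (fun q => q s) (pt_comp (K := k) (Tori96.ofA T x) (toSp T))
      rw [pt_toSp] at h
      have h2 : Tori96.ofA T x ≫ toSp T = spMap x := by
        haveI := Tori96.isIso_toSp_of_isAffine (T := T)
        simp [Tori96.ofA]
      rw [h2, pt_spMap] at h
      exact h.symm
    erw [h1]
    change (Scheme.ΓSpecIso (CommRingCat.of k)).hom ((Tori96.spUnit (K := k)).inv.left.appTop _) = _
    change (Scheme.ΓSpecIso (CommRingCat.of k)).hom
      ((Scheme.Hom.appTop (𝟙 (Spec (CommRingCat.of k)))) ((Scheme.ΓSpecIso (CommRingCat.of k)).inv (x s))) = x s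
    rw [Scheme.Hom.id_appTop]
    exact Iso.inv_hom_id_apply (Scheme.ΓSpecIso (CommRingCat.of k)) (x s)
  have hchar : ∀ m, IsCharFn (c m) := by
    intro m
    refine ⟨(Tori96.mon w m).isUnit.map θ, fun s t => ?_⟩
    obtain ⟨x, hx⟩ := (Tori96.ofA_bijective (T := T) k).2 (Tori96.spUnit.hom ≫ s)
    obtain ⟨y, hy⟩ := (Tori96.ofA_bijective (T := T) k).2 (Tori96.spUnit.hom ≫ t)
    have hs' : s = Tori96.spUnit.inv ≫ Tori96.ofA T x := by rw [hx, Iso.inv_hom_id_assoc]
    have ht' : t = Tori96.spUnit.inv ≫ Tori96.ofA T y := by rw [hy, Iso.inv_hom_id_assoc]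
    have hst : s * t = Tori96.spUnit.inv ≫ Tori96.ofA T (Tori96.pmul Δ x y) := by
      rw [hΔ, MonObj.comp_mul, ← hs', ← ht']
    rw [hst, hs', ht', hval, hval, hval]
    have h := congrArg Units.val (DFunLike.congr_fun (Tori96.pval_pmul hw x y) m)
    change Tori96.evalAt _ _ _ = Tori96.evalAt _ _ _ * Tori96.evalAt _ _ _ at h
    rwa [hθ, hθ, hθ] at h
  rw [eq_top_iff]
  intro a _
  obtain ⟨p, hp⟩ := hw.2.2 (1 ⊗ₜ a)
  have ha : a = θ (Tori96.psi w p) := by
    rw [hp]; simp [θ]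
  rw [ha]
  clear hp ha
  induction p using MonoidAlgebra.induction_linear with
  | zero => simp
  | add p q hp hq => rw [map_add, map_add]; exact Submodule.add_mem _ hp hq
  | single m r =>
    rw [Tori96.psi_single, map_smul]
    exact Submodule.smul_mem _ _ (Submodule.subset_span (hchar m))

end Groth.Agent.GIT36.Mu
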