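import Groth.Agent.GIT36.Mu.TorusChars
import Groth.Agent.GIT36.LinUnique
import Groth.Agent.Mu99.Basic

/-!
Values of fibre coordinates and of weight functions at rational points.
-/

set_option autoImplicit false
set_option backward.isDefEq.respectTransparency.types false
set_option linter.style.haveILetI false

universe u

open CategoryTheory CategoryTheory.Limits MonoidalCategory CartesianMonoidalCategory MonObj AlgebraicGeometry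
  Opposite Groth.Agent.Mag88

noncomputable section

namespace Groth.Agent.GIT36.Mu

variable {k : Type u} [Field k]

open scoped Classical in
/-- The value at a rational point, extended by zero. -/
def vz {Z : Over (St k)} {O : Z.left.Opens} (p : Pt k ⟶ Z) (s : Γ(Z.left, O)) : k :=
  if h : ⊤ ≤ p.left ⁻¹ᵁ O then val p h s else 0

theorem vz_eq {Z : Over (St k)} {O : Z.left.Opens} {p : Pt k ⟶ Z} (h : ⊤ ≤ p.left ⁻¹ᵁ O) (s : Γ(Z.left, O)) :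
    vz p s = val p h s := dif_pos h

theorem vz_appLE {Z W : Over (St k)} (f : Z ⟶ W) {U : W.left.Opens} {O : Z.left.Opens} (e : O ≤ f.left ⁻¹ᵁ U)
    {p : Pt k ⟶ Z} (h : ⊤ ≤ p.left ⁻¹ᵁ O) (s : Γ(W.left, U)) :
    vz p (f.left.appLE U O e s) = vz (p ≫ f) s := by
  rw [vz_eq h, vz_eq (p := p ≫ f) (fun x hx => e (h hx)), val_appLE]

theorem vz_res {Z : Over (St k)} {O O' : Z.left.Opens} (i : O' ≤ O) {p : Pt k ⟶ Z} (h : ⊤ ≤ p.left ⁻¹ᵁ O')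
    (s : Γ(Z.left, O)) : vz p (Z.left.presheaf.map (homOfLE i).op s) = vz p s := by
  rw [vz_eq h, vz_eq (p := p) (fun x hx => i (h hx)), val_res]

theorem vz_mul {Z : Over (St k)} {O : Z.left.Opens} {p : Pt k ⟶ Z} (h : ⊤ ≤ p.left ⁻¹ᵁ O) (s s' : Γ(Z.left, O)) :
    vz p (s * s') = vz p s * vz p s' := by
  rw [vz_eq h, vz_eq h, vz_eq h, map_mul]

theorem vz_pow {Z : Over (St k)} {O : Z.left.Opens} {p : Pt k ⟶ Z} (h : ⊤ ≤ p.left ⁻¹ᵁ O) (s : Γ(Z.left, O))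
    (n : ℕ) : vz p (s ^ n) = vz p s ^ n := by
  rw [vz_eq h, vz_eq h, map_pow]

theorem gv_eq_vz {Z : Over (St k)} (p : Pt k ⟶ Z) (s : Γ(Z.left, ⊤)) : gv p s = vz p s :=
  (gv_eq_val p s).trans (vz_eq (O := (⊤ : Z.left.Opens)) (p := p) (fun _ _ => trivial) s).symm

theorem mem_of_le {Z : Over (St k)} {O : Z.left.Opens} {p : Pt k ⟶ Z} (h : ⊤ ≤ p.left ⁻¹ᵁ O) :
    p.left (IsLocalRing.closedPoint k) ∈ O := h trivial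

variable {G X : Over (St k)} [GrpObj G] {a : AlgGrp.Action G X} (B : GLinSh.LinBun G a)

theorem over_mem {T' : Over (St k)} {v : T' ⟶ B.V} {x : T' ⟶ X} (hv : v ≫ B.π = x) {U : X.left.Opens}
    (hx : ⊤ ≤ x.left ⁻¹ᵁ U) : ⊤ ≤ v.left ⁻¹ᵁ (B.π.left ⁻¹ᵁ U) := by
  subst hv; exact hx

theorem exists_over {U : X.left.Opens} {ζ : Γ(B.V.left, B.π.left ⁻¹ᵁ U)} (hζ : ζ ∈ B.atlas.chart U)
    (x : Pt k ⟶ X) (hx : ⊤ ≤ x.left ⁻¹ᵁ U) : ∃ v : Pt k ⟶ B.V, v ≫ B.π = x ∧ vz v ζ = 1 := by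
  obtain ⟨i⟩ := AlgGrp79.kPt_iso (k := k)
  obtain ⟨v, hv, hvπ, hv1⟩ := LinUnique.exists_pt B.atlas hζ (i.hom ≫ x) (fun z _ => hx trivial) 1
  have hπ : (i.inv ≫ v) ≫ B.π = x := by rw [Category.assoc, hvπ, Iso.inv_hom_id_assoc]
  refine ⟨i.inv ≫ v, hπ, ?_⟩
  have hone : v.left.appLE (B.π.left ⁻¹ᵁ U) ⊤ hv ζ = 1 :=
    (Scheme.ΓSpecIso (CommRingCat.of k)).commRingCatIsoToRingEquiv.injective (hv1.trans (map_one _).symm)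
  rw [vz_eq (over_mem B hπ hx), val, RingHom.comp_apply, ← ev_comp i.inv v hv ζ]
  change (Scheme.ΓSpecIso (CommRingCat.of k)).hom (i.inv.left.appTop (v.left.appLE (B.π.left ⁻¹ᵁ U) ⊤ hv ζ)) = 1
  rw [hone, map_one, map_one]

theorem act_π {T' : Over (St k)} (g : T' ⟶ G) (v : T' ⟶ B.V) :
    (lift g v ≫ B.lift.act) ≫ B.π = lift g (v ≫ B.π) ≫ a.act := by
  rw [Category.assoc, B.lift_π, lift_whiskerLeft_assoc]

/-- The factor by which the action changes fibre coordinates. -/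
theorem exists_lin {U U' : X.left.Opens} {ζ : Γ(B.V.left, B.π.left ⁻¹ᵁ U)}
    {ζ' : Γ(B.V.left, B.π.left ⁻¹ᵁ U')} (hζ : ζ ∈ B.atlas.chart U) (hζ' : ζ' ∈ B.atlas.chart U') :
    ∃ c : Γ((G ⊗ X).left, a.act.left ⁻¹ᵁ U' ⊓ (snd G X).left ⁻¹ᵁ U), ∀ (T' : Over (St k)) (g : T' ⟶ G)
      (v : T' ⟶ B.V) (hQ : ⊤ ≤ (lift g (v ≫ B.π)).left ⁻¹ᵁ (a.act.left ⁻¹ᵁ U' ⊓ (snd G X).left ⁻¹ᵁ U))
      (hgv : ⊤ ≤ (lift g v ≫ B.lift.act).left ⁻¹ᵁ (B.π.left ⁻¹ᵁ U')) (hv : ⊤ ≤ v.left ⁻¹ᵁ (B.π.left ⁻¹ᵁ U)),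
      ev (lift g v ≫ B.lift.act) hgv ζ' = ev (lift g (v ≫ B.π)) hQ c * ev v hv ζ := by
  obtain ⟨c, hc⟩ := B.lift_linear U U' ζ ζ' hζ hζ'
  refine ⟨c, fun T' g v hQ hgv hv => ?_⟩
  have eQ : lift g v ≫ (G ◁ B.π) = lift g (v ≫ B.π) := lift_whiskerLeft _ _ _
  have hP : ⊤ ≤ (lift g v).left ⁻¹ᵁ GLinSh.liftOpen a B.π U U' := by
    change ⊤ ≤ (lift g v ≫ (G ◁ B.π)).left ⁻¹ᵁ (a.act.left ⁻¹ᵁ U' ⊓ (snd G X).left ⁻¹ᵁ U)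
    rw [eQ]; exact hQ
  have h := congrArg (ev (lift g v) hP) hc
  rw [map_mul, ev_appLE, ev_appLE, ev_appLE] at h
  rwa [ev_congr eQ _ hQ, ev_congr (lift_snd g v) _ hv] at h

theorem landing {g : Pt k ⟶ G} {x : Pt k ⟶ X} {U U' : X.left.Opens} (hx : ⊤ ≤ x.left ⁻¹ᵁ U)
    (hgx : ⊤ ≤ (lift g x ≫ a.act).left ⁻¹ᵁ U') :
    ⊤ ≤ (lift g x).left ⁻¹ᵁ (a.act.left ⁻¹ᵁ U' ⊓ (snd G X).left ⁻¹ᵁ U) := fun z hz => by
  refine ⟨hgx hz, ?_⟩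
  change (lift g x ≫ snd G X).left z ∈ U
  rw [lift_snd]
  exact hx hz

/-- At rational points. -/
theorem exists_lin_vz {U U' : X.left.Opens} {ζ : Γ(B.V.left, B.π.left ⁻¹ᵁ U)}
    {ζ' : Γ(B.V.left, B.π.left ⁻¹ᵁ U')} (hζ : ζ ∈ B.atlas.chart U) (hζ' : ζ' ∈ B.atlas.chart U') :
    ∃ c : Γ((G ⊗ X).left, a.act.left ⁻¹ᵁ U' ⊓ (snd G X).left ⁻¹ᵁ U), ∀ (g : Pt k ⟶ G) (v : Pt k ⟶ B.V),
      ⊤ ≤ (v ≫ B.π).left ⁻¹ᵁ U → ⊤ ≤ (lift g (v ≫ B.π) ≫ a.act).left ⁻¹ᵁ U' →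
      vz (lift g v ≫ B.lift.act) ζ' = vz (lift g (v ≫ B.π)) c * vz v ζ := by
  obtain ⟨c, hc⟩ := exists_lin B hζ hζ'
  refine ⟨c, fun g v hx hgx => ?_⟩
  have hv := over_mem B (v := v) rfl hx
  have hgv := over_mem B (act_π B g v) hgx
  rw [vz_eq hgv, vz_eq (landing hx hgx), vz_eq hv, val, val, val, RingHom.comp_apply, RingHom.comp_apply,
    RingHom.comp_apply, hc _ g v (landing hx hgx) hgv hv, map_mul]

theorem inv_act {T' : Over (St k)} (g : T' ⟶ G) (v : T' ⟶ B.V) :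
    lift g⁻¹ (lift g v ≫ B.lift.act) ≫ B.lift.act = v := by
  rw [← Mu99.act_mul, inv_mul_cancel, Mu99.act_one]

theorem vz_act_ne_zero {U U' : X.left.Opens} {ζ : Γ(B.V.left, B.π.left ⁻¹ᵁ U)}
    {ζ' : Γ(B.V.left, B.π.left ⁻¹ᵁ U')} (hζ : ζ ∈ B.atlas.chart U) (hζ' : ζ' ∈ B.atlas.chart U')
    (g : Pt k ⟶ G) (v : Pt k ⟶ B.V) (hx : ⊤ ≤ (v ≫ B.π).left ⁻¹ᵁ U)
    (hgx : ⊤ ≤ (lift g (v ≫ B.π) ≫ a.act).left ⁻¹ᵁ U') (hv : vz v ζ ≠ 0) :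
    vz (lift g v ≫ B.lift.act) ζ' ≠ 0 := by
  obtain ⟨c, hc⟩ := exists_lin_vz B hζ' hζ
  have e := inv_act B g v
  intro h0
  have h := hc g⁻¹ (lift g v ≫ B.lift.act) (by rw [act_π]; exact hgx)
    (by rw [← act_π, e]; exact hx)
  rw [e, h0, mul_zero] at h
  exact hv h

/-- Change of fibre coordinate. -/
theorem exists_chart_change {U U' : X.left.Opens} {ζ : Γ(B.V.left, B.π.left ⁻¹ᵁ U)}
    {ζ' : Γ(B.V.left, B.π.left ⁻¹ᵁ U')} (hζ : ζ ∈ B.atlas.chart U) (hζ' : ζ' ∈ B.atlas.chart U')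
    (x : Pt k ⟶ X) (hx : ⊤ ≤ x.left ⁻¹ᵁ U) (hx' : ⊤ ≤ x.left ⁻¹ᵁ U') :
    ∃ b : k, b ≠ 0 ∧ ∀ v : Pt k ⟶ B.V, v ≫ B.π = x → vz v ζ' = b * vz v ζ := by
  obtain ⟨c, hu, hc⟩ := B.atlas.linear U U' ζ ζ' hζ hζ'
  have hI : ⊤ ≤ x.left ⁻¹ᵁ (U ⊓ U') := fun z hz => ⟨hx hz, hx' hz⟩
  refine ⟨vz x c, ?_, fun v hv => ?_⟩
  · rw [vz_eq hI]
    exact (hu.map _).ne_zero
  have hvI : ⊤ ≤ v.left ⁻¹ᵁ (B.π.left ⁻¹ᵁ (U ⊓ U')) := over_mem B hv hI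
  have h := congrArg (vz v) hc
  unfold GLinSh.res at h
  rw [vz_mul hvI, vz_res _ hvI, vz_res _ hvI, Scheme.Hom.app_eq_appLE, vz_appLE B.π _ hvI, hv] at h
  exact h

/-- Weight functions in a chart. -/
theorem exists_weight_val {n : ℕ} {f : Γ(B.V.left, ⊤)} (hf : GLinSh.HasWeight B.atlas.chart n f)
    {U : X.left.Opens} {ζ : Γ(B.V.left, B.π.left ⁻¹ᵁ U)} (hζ : ζ ∈ B.atlas.chart U) :
    ∃ c : Γ(X.left, U), (∀ v : Pt k ⟶ B.V, ⊤ ≤ (v ≫ B.π).left ⁻¹ᵁ U →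
        gv v f = vz (v ≫ B.π) c * vz v ζ ^ n) ∧
      ∀ x : Pt k ⟶ X, ⊤ ≤ x.left ⁻¹ᵁ U →
        x.left (IsLocalRing.closedPoint k) ∈ GLinSh.nonvanishing B.π f → vz x c ≠ 0 := by
  obtain ⟨c, hc⟩ := hf U ζ hζ
  refine ⟨c, fun v hv => ?_, fun x hx hmem => ?_⟩
  · have hv' : ⊤ ≤ v.left ⁻¹ᵁ (B.π.left ⁻¹ᵁ U) := over_mem B rfl hv
    have h := congrArg (vz v) hc
    unfold GLinSh.resTop at h
    rw [vz_mul hv', vz_res _ hv', vz_pow hv', Scheme.Hom.app_eq_appLE, vz_appLE B.π _ hv', ← gv_eq_vz] at h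
    exact h
  · obtain ⟨q, hq, hqx⟩ := hmem
    have hxU := mem_of_le hx
    have h1 : q ∈ B.V.left.basicOpen (GLinSh.resTop B.π U f) := by
      unfold GLinSh.resTop
      rw [Scheme.basicOpen_res]
      refine ⟨?_, hq⟩
      change B.π.left q ∈ U
      exact hqx ▸ hxU
    rw [hc, Scheme.basicOpen_mul] at h1
    have h2 : q ∈ B.π.left ⁻¹ᵁ X.left.basicOpen c := by
      rw [Scheme.preimage_basicOpen]; exact h1.1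
    change B.π.left q ∈ X.left.basicOpen c at h2
    have h3 : x.left (IsLocalRing.closedPoint k) ∈ X.left.basicOpen c := hqx ▸ h2
    rw [vz_eq hx]
    exact (mem_basicOpen_iff_val x hx c).mp h3

theorem exists_chart_at (x : Pt k ⟶ X) :
    ∃ (U : X.left.Opens) (ζ : Γ(B.V.left, B.π.left ⁻¹ᵁ U)), ζ ∈ B.atlas.chart U ∧ ⊤ ≤ x.left ⁻¹ᵁ U := by
  obtain ⟨U, hU, ζ, hζ⟩ := B.atlas.cover (x.left (IsLocalRing.closedPoint k))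
  exact ⟨U, ζ, hζ, pt_mem x hU⟩

end Groth.Agent.GIT36.Mu
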