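import Groth.Agent.GIT36.Mu.Line
import Groth.Agent.Mu99.Parab
import Groth.Agent.Curves2.ProjLineProper

/-!
The orbit curve of a point of a proper scheme extends to the affine line; its value at the origin is the limit point.
-/

set_option autoImplicit false
set_option backward.isDefEq.respectTransparency.types false
set_option linter.style.haveILetI false

universe u

open CategoryTheory CategoryTheory.Limits MonoidalCategory CartesianMonoidalCategory MonObj AlgebraicGeometry
  Opposite Polynomial Groth.Agent.Mag88 Magnet Magnet.MonAct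

noncomputable section

namespace Groth.Agent.GIT36.Mu

variable {k : Type u} [Field k]

theorem valuationRing_stalk_line (y : (Ln k).left) :
    ∃ _ : IsDomain ((Ln k).left.presheaf.stalk y), ValuationRing ((Ln k).left.presheaf.stalk y) := by
  change PrimeSpectrum k[X] at y
  change ∃ _ : IsDomain ((Spec.structureSheaf k[X]).presheaf.stalk y),
    ValuationRing ((Spec.structureSheaf k[X]).presheaf.stalk y)
  let L := (Spec.structureSheaf k[X]).presheaf.stalk y
  have : IsLocalization.AtPrime L y.asIdeal := StructureSheaf.IsLocalization.to_stalk k[X] y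
  have hd : IsDomain L := IsLocalization.isDomain_of_le_nonZeroDivisors (R := k[X]) L
      (M := y.asIdeal.primeCompl) y.asIdeal.primeCompl_le_nonZeroDivisors
  have : IsLocalRing L := IsLocalization.AtPrime.isLocalRing L y.asIdeal
  have : IsBezout L := by
    have : IsPrincipalIdealRing L :=
      ⟨fun J => by
        obtain ⟨g, hg⟩ := IsPrincipalIdealRing.principal (Ideal.under k[X] J)
        exact ⟨algebraMap k[X] _ g, by
          rw [← IsLocalization.map_under y.asIdeal.primeCompl _ J, hg, Ideal.submodule_span_eq, Ideal.map_span,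
            Set.image_singleton]⟩⟩
    infer_instance
  exact ⟨hd, ValuationRing.iff_local_bezout_domain.mpr ⟨inferInstance, inferInstance⟩⟩

variable (k) in
/-- The punctured line. -/
def punct : (Ln k).left.Opens := (Ln k).left.basicOpen (lnFn Polynomial.X)

variable (k) in
/-- The punctured line over the base. -/
def Punct : Over (St k) := Over.mk ((punct k).ι ≫ (Ln k).hom)

variable (k) in
/-- The inclusion of the punctured line. -/
def punctι : Punct k ⟶ Ln k := Over.homMk (punct k).ι rfl

theorem isUnit_punct : IsUnit ((punctι k).left.appTop (lnFn Polynomial.X)) := by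
  have h := (Ln k).left.toRingedSpace.isUnit_res_basicOpen (lnFn (k := k) Polynomial.X)
  have h2 := h.map ((punct k).ι.appLE (punct k) ⊤ (punct k).ι_preimage_self.ge).hom
  have e : (Ln k).left.presheaf.map (homOfLE ((Ln k).left.basicOpen_le (lnFn (k := k) Polynomial.X))).op ≫
      (punct k).ι.appLE (punct k) ⊤ (punct k).ι_preimage_self.ge = (punct k).ι.appTop := by
    rw [Scheme.Hom.appTop, Scheme.Hom.app_eq_appLE]
    exact Scheme.Hom.map_appLE _ _ _
  change IsUnit ((punct k).ι.appTop (lnFn (k := k) Polynomial.X))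
  rw [← e]
  exact h2

variable (k) in
/-- The punctured line as the multiplicative group. -/
def punctToGm : Punct k ⟶ Red.Gm (St k) := GmPts.ptOfUnit (T := Punct k) (isUnit_punct (k := k)).unit

theorem incl_mem_punct : ⊤ ≤ (HMNum.incl (St k) ≫ fromA).left ⁻¹ᵁ punct k := by
  rw [punct, Scheme.preimage_basicOpen_top]
  have h : IsUnit (coord (HMNum.incl (St k))) := by
    have := coord_incl (S := St k) (𝟙 (Red.Gm (St k)))
    rw [Category.id_comp] at this
    rw [this]
    exact (GmPts.unitOfPt (𝟙 (Red.Gm (St k)))).isUnit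
  exact (Scheme.basicOpen_of_isUnit _ (by rwa [comp_fromA_fn])).ge

theorem range_incl_subset : Set.range (HMNum.incl (St k) ≫ fromA).left ⊆ Set.range (punct k).ι := by
  rw [Scheme.Opens.range_ι]
  rintro _ ⟨z, rfl⟩
  exact incl_mem_punct (k := k) trivial

variable (k) in
/-- The underlying morphism of the multiplicative group to the punctured line. -/
def gmToPunctLeft : (Red.Gm (St k)).left ⟶ (punct k).toScheme :=
  IsOpenImmersion.lift (punct k).ι (HMNum.incl (St k) ≫ fromA).left range_incl_subset

theorem gmToPunctLeft_ι : gmToPunctLeft k ≫ (punct k).ι = (HMNum.incl (St k) ≫ fromA).left :=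
  IsOpenImmersion.lift_fac (punct k).ι _ range_incl_subset

variable (k) in
/-- The multiplicative group as the punctured line. -/
def gmToPunct : Red.Gm (St k) ⟶ Punct k :=
  Over.homMk (gmToPunctLeft k) (by
    change gmToPunctLeft k ≫ (punct k).ι ≫ (Ln k).hom = _
    rw [← Category.assoc, gmToPunctLeft_ι]
    exact Over.w (HMNum.incl (St k) ≫ fromA))

theorem gmToPunct_ι : gmToPunct k ≫ punctι k = HMNum.incl (St k) ≫ fromA :=
  Over.OverMorphism.ext gmToPunctLeft_ι

theorem gmToPunct_punctToGm : gmToPunct k ≫ punctToGm k = 𝟙 (Red.Gm (St k)) := by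
  refine RedPts82.gmFn_injective ?_
  rw [RedPts82.gmFn_comp]
  change (gmToPunct k).left.appTop (GmPts.unitOfPt (punctToGm k) : Γ((Punct k).left, ⊤)) = _
  rw [punctToGm, GmPts.unitOfPt_ptOfUnit, IsUnit.unit_spec]
  change ((gmToPunct k ≫ punctι k).left.appTop (lnFn Polynomial.X)) = _
  rw [gmToPunct_ι, comp_fromA_fn]
  have := coord_incl (S := St k) (𝟙 (Red.Gm (St k)))
  rwa [Category.id_comp] at this

variable {G X : Over (St k)} [GrpObj G] (a : AlgGrp.Action G X) (l : Red.Gm (St k) ⟶ G)

/-- The orbit map. -/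
def orb (x : Pt k ⟶ X) : Red.Gm (St k) ⟶ X := lift l (toUnit _ ≫ x) ≫ a.act

theorem comp_orb {T : Over (St k)} (g : T ⟶ Red.Gm (St k)) (x : Pt k ⟶ X) :
    g ≫ orb a l x = lift (g ≫ l) (toUnit T ≫ x) ≫ a.act := by
  rw [orb, comp_lift_assoc, ← Category.assoc g, toUnit_unique (g ≫ toUnit (Red.Gm (St k))) (toUnit T)]

theorem pt_comp_orb (u : kˣ) (x : Pt k ⟶ X) : gpt u ≫ orb a l x = lift (gpt u ≫ l) x ≫ a.act := by
  rw [comp_orb, toUnit_unique (toUnit (Pt k)) (𝟙 _), Category.id_comp]

/-- The orbit curve extends to the affine line, and its value at the origin is the limit point. -/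
theorem exists_curve [IsProper X.hom] [IsMonHom l] (x : Pt k ⟶ X) :
    ∃ φ : Ln k ⟶ X, (∀ u : kˣ, lnPt (u : k) ≫ φ = lift (gpt u ≫ l) x ≫ a.act) ∧
      HMNum.IsLimitPt a l x (lnPt 0 ≫ φ) := by
  have : IsIntegral (Ln k).left := inferInstanceAs (IsIntegral (Spec (CommRingCat.of k[X])))
  have : IsLocallyNoetherian (Ln k).left := inferInstanceAs (IsLocallyNoetherian (Spec (CommRingCat.of k[X])))
  have : Nonempty (punct k) := by
    refine ⟨⟨(lnPt (1 : k)).left (IsLocalRing.closedPoint k), ?_⟩⟩
    exact (mem_lnPt_basicOpen (1 : k) _).mpr (by simp)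
  let ψ := punctToGm k ≫ orb a l x
  obtain ⟨g', hg1, hg2⟩ := Curves2.exists_extension_of_valuationRing X.hom (Ln k).hom valuationRing_stalk_line
    (punct k) ψ.left (Over.w ψ)
  let φ : Ln k ⟶ X := Over.homMk g' hg1
  have hφ : punctι k ≫ φ = ψ := Over.OverMorphism.ext hg2
  have hinc : HMNum.incl (St k) ≫ fromA ≫ φ = orb a l x := by
    rw [← Category.assoc, ← gmToPunct_ι, Category.assoc, hφ]
    change gmToPunct k ≫ punctToGm k ≫ orb a l x = _
    rw [← Category.assoc, gmToPunct_punctToGm, Category.id_comp]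
  refine ⟨φ, fun u => ?_, ⟨fst _ _ ≫ fromA ≫ φ,
    (mem_eqvHom_iff (ρ := subAct (St k) ℤ HMNum.plus) (a := HMNum.gmAct a l) _).2 fun T' g b t => ?_⟩, ?_, ?_⟩
  · rw [← gpt_incl, Category.assoc, Category.assoc, hinc, pt_comp_orb]
  · rw [lift_fst_assoc, lift_fst_assoc, Mu99.gm_smul]
    haveI := Mag88.isSTD_subtype (S := St k) HMNum.plus (Red.Gm (St k))
    have key : lift (snd (HMNum.A1 (St k)) (Red.Gm (St k))) (fst _ _) ≫ (subAct (St k) ℤ HMNum.plus).act ≫
        fromA ≫ φ = lift (snd _ _ ≫ l) (fst _ _ ≫ fromA ≫ φ) ≫ a.act := by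
      refine Mag88.eq_of_isSTD (AMonS.map (St k) HMNum.plus.subtype ▷ Red.Gm (St k)) _ _ ?_
      apply hom_ext_lift₂
      intro T'' w v
      rw [lift_whiskerRight_assoc, lift_whiskerRight_assoc, comp_lift_assoc, comp_lift_assoc, lift_snd, lift_fst,
        lift_snd_assoc, lift_fst_assoc]
      have e : lift v (w ≫ AMonS.map (St k) HMNum.plus.subtype) ≫ (subAct (St k) ℤ HMNum.plus).act =
          (v * w) ≫ AMonS.map (St k) HMNum.plus.subtype := by
        rw [MonObj.mul_comp]
        exact (lift_restrict_act _ _ _ _).trans (lift_regular_act _ _)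
      rw [← Category.assoc, e, Category.assoc, Category.assoc, hinc, comp_orb, comp_orb, MonObj.mul_comp,
        Mu99.act_mul]
    have h2 := congrArg (lift b g ≫ ·) key
    simp only [comp_lift_assoc, lift_snd, lift_fst, lift_snd_assoc, lift_fst_assoc] at h2
    exact h2
  · change lift (toUnit (Pt k) ≫ η[AMonS (St k) ↥HMNum.plus]) (𝟙 _) ≫ fst _ _ ≫ fromA ≫ φ = x
    rw [lift_fst_assoc, ← Hom.one_def,
      show (1 : Pt k ⟶ AMonS (St k) ↥HMNum.plus) = (1 : Pt k ⟶ Red.Gm (St k)) ≫ HMNum.incl (St k) from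
        (MonObj.one_comp _).symm, Category.assoc, hinc, comp_orb, MonObj.one_comp, Mu99.act_one,
      toUnit_unique (toUnit (Pt k)) (𝟙 _), Category.id_comp]
  · rw [HMNum.limitPt_eq]
    dsimp only
    rw [lift_fst_assoc, toUnit_unique (toUnit (Pt k)) (𝟙 _), Category.id_comp, ← origin_fromA, Category.assoc]

end Groth.Agent.GIT36.Mu
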