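import Mathlib.RingTheory.UniqueFactorizationDomain.Multiplicity
import Mathlib.Algebra.Polynomial.Roots
import Mathlib.Algebra.Polynomial.Div
import Mathlib.Algebra.Polynomial.FieldDivision

/-!
Functions of a variable that are rational without pole at zero, and finite sums of integral powers.
-/

set_option autoImplicit false

open Polynomial Filter

namespace Groth.Agent.GIT36.Mu

variable {k : Type*} [Field k]

theorem eventually_eval_ne_zero {Q : k[X]} (hQ : Q ≠ 0) : ∀ᶠ u in cofinite, Q.eval u ≠ 0 := by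
  rw [eventually_cofinite]
  simp only [ne_eq, not_not]
  exact Polynomial.finite_setOf_isRoot hQ

theorem eventually_ne_zero : ∀ᶠ u in cofinite, (u : k) ≠ 0 := by
  rw [eventually_cofinite]
  simp

theorem ne_zero_of_eval {Q : k[X]} {u : k} (h : Q.eval u ≠ 0) : Q ≠ 0 := by
  rintro rfl; simp at h

theorem eq_of_eventually [Infinite k] {P Q : k[X]} (h : ∀ᶠ u in cofinite, P.eval u = Q.eval u) : P = Q := by
  refine Polynomial.eq_of_infinite_eval_eq _ _ ?_
  rw [eventually_cofinite] at h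
  exact (h.infinite_compl).mono fun u hu => not_not.mp hu

/-- The function agrees almost everywhere with a rational function without pole at zero, of value `c` there. -/
def IsReg (F : k → k) (c : k) : Prop :=
  ∃ P Q : k[X], Q.eval 0 ≠ 0 ∧ P.eval 0 = c * Q.eval 0 ∧ ∀ᶠ u in cofinite, F u * Q.eval u = P.eval u

namespace IsReg

variable {F F' : k → k} {c c' : k}

theorem const (c : k) : IsReg (fun _ => c) c :=
  ⟨C c, 1, by simp, by simp, Eventually.of_forall fun u => by simp⟩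

theorem poly (P : k[X]) : IsReg (fun u => P.eval u) (P.eval 0) :=
  ⟨P, 1, by simp, by simp, Eventually.of_forall fun u => by simp⟩

theorem congr (h : IsReg F c) (e : ∀ᶠ u in cofinite, F u = F' u) : IsReg F' c := by
  obtain ⟨P, Q, h1, h2, h3⟩ := h
  exact ⟨P, Q, h1, h2, by filter_upwards [h3, e] with u hu he; rw [← he, hu]⟩

theorem mul (h : IsReg F c) (h' : IsReg F' c') : IsReg (fun u => F u * F' u) (c * c') := by
  obtain ⟨P, Q, h1, h2, h3⟩ := h
  obtain ⟨P', Q', h1', h2', h3'⟩ := h'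
  refine ⟨P * P', Q * Q', by simp [h1, h1'], ?_, ?_⟩
  · rw [eval_mul, eval_mul, h2, h2']; ring
  · filter_upwards [h3, h3'] with u hu hu'
    rw [eval_mul, eval_mul, ← hu, ← hu']; ring

theorem pow (h : IsReg F c) (n : ℕ) : IsReg (fun u => F u ^ n) (c ^ n) := by
  induction n with
  | zero => simpa using const (1 : k)
  | succ n ih => simpa [pow_succ] using ih.mul h

theorem eventually_ne_zero (h : IsReg F c) (hc : c ≠ 0) : ∀ᶠ u in cofinite, F u ≠ 0 := by
  obtain ⟨P, Q, h1, h2, h3⟩ := h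
  have hP : P ≠ 0 := ne_zero_of_eval (u := (0 : k)) (by rw [h2]; exact mul_ne_zero hc h1)
  filter_upwards [h3, eventually_eval_ne_zero hP] with u hu hPu h0
  rw [h0, zero_mul] at hu
  exact hPu hu.symm

theorem inv (h : IsReg F c) (hc : c ≠ 0) : IsReg (fun u => (F u)⁻¹) c⁻¹ := by
  obtain ⟨P, Q, h1, h2, h3⟩ := h
  refine ⟨Q, P, by rw [h2]; exact mul_ne_zero hc h1, by rw [h2, inv_mul_cancel_left₀ hc], ?_⟩
  filter_upwards [h3, IsReg.eventually_ne_zero ⟨P, Q, h1, h2, h3⟩ hc] with u hu hFu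
  rw [← hu, inv_mul_cancel_left₀ hFu]

theorem scale (h : IsReg F c) {s : k} (hs : s ≠ 0) : IsReg (fun u => F (s * u)) c := by
  obtain ⟨P, Q, h1, h2, h3⟩ := h
  refine ⟨P.comp (C s * X), Q.comp (C s * X), by simpa using h1, by simpa using h2, ?_⟩
  have := ((mul_right_injective₀ hs).tendsto_cofinite).eventually h3
  filter_upwards [this] with u hu
  simpa using hu

theorem unique [Infinite k] (h : IsReg F c) (h' : IsReg F c') : c = c' := by
  obtain ⟨P, Q, h1, h2, h3⟩ := h
  obtain ⟨P', Q', h1', h2', h3'⟩ := h'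
  have e : P * Q' = P' * Q := eq_of_eventually (by
    filter_upwards [h3, h3'] with u hu hu'
    rw [eval_mul, eval_mul, ← hu, ← hu']; ring)
  have e0 := congrArg (eval 0) e
  rw [eval_mul, eval_mul, h2, h2'] at e0
  refine mul_right_cancel₀ (mul_ne_zero h1 h1') ?_
  calc c * (Q.eval 0 * Q'.eval 0) = c * Q.eval 0 * Q'.eval 0 := by ring
    _ = c' * Q'.eval 0 * Q.eval 0 := e0
    _ = c' * (Q.eval 0 * Q'.eval 0) := by ring

end IsReg

section Laurent

variable {ι : Type*} (J : Finset ι) (a : ι → k) (e : ι → ℤ)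

/-- The finite sum of powers. -/
def lsum (u : k) : k := ∑ j ∈ J, a j * u ^ e j

open scoped Classical in
/-- The coefficient of a power. -/
noncomputable def cls (N : ℤ) : k := ∑ j ∈ J.filter (fun j => e j = N), a j

theorem exists_shift_bound (N : ℤ) : ∃ K : ℕ, 0 ≤ N + K ∧ ∀ j ∈ J, 0 ≤ e j + K := by
  refine ⟨(-N).toNat + ∑ j ∈ J, (-e j).toNat, by omega, fun j hj => ?_⟩
  have := Finset.single_le_sum (f := fun j => (-e j).toNat) (fun _ _ => Nat.zero_le _) hj
  omega

/-- The polynomial obtained by shifting the exponents. -/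
noncomputable def shiftPoly (K : ℕ) : k[X] := ∑ j ∈ J, C (a j) * X ^ (e j + K).toNat

theorem shiftPoly_coeff {K : ℕ} (hK : ∀ j ∈ J, 0 ≤ e j + K) (i : ℕ) :
    (shiftPoly J a e K).coeff i = cls J a e ((i : ℤ) - K) := by
  classical
  rw [shiftPoly, finsetSum_coeff, cls, Finset.sum_filter]
  refine Finset.sum_congr rfl fun j hj => ?_
  rw [coeff_C_mul_X_pow]
  have := hK j hj
  refine if_congr ?_ rfl rfl
  omega

theorem shiftPoly_eval {K : ℕ} (hK : ∀ j ∈ J, 0 ≤ e j + K) {u : k} (hu : u ≠ 0) :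
    (shiftPoly J a e K).eval u = lsum J a e u * u ^ K := by
  rw [shiftPoly, eval_finsetSum, lsum, Finset.sum_mul]
  refine Finset.sum_congr rfl fun j hj => ?_
  rw [eval_mul, eval_C, eval_pow, eval_X, _root_.mul_assoc, ← zpow_natCast, ← zpow_natCast u K,
    ← zpow_add₀ hu, Int.toNat_of_nonneg (hK j hj)]

theorem not_X_dvd {Q : k[X]} (hQ : Q.eval 0 ≠ 0) : ¬ (X : k[X]) ∣ Q := by
  rw [X_dvd_iff, coeff_zero_eq_eval_zero]; exact hQ

/-- Vanishing of the coefficients below the order, with the value at the order. -/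
theorem cls_of_isReg [Infinite k] {N : ℤ} {R : k → k} {c : k} (hR : IsReg R c)
    (h : ∀ᶠ u in cofinite, lsum J a e u = u ^ N * R u) :
    (∀ N' < N, cls J a e N' = 0) ∧ cls J a e N = c := by
  obtain ⟨K, hN, hK⟩ := exists_shift_bound J e N
  obtain ⟨M, hM⟩ := Int.eq_ofNat_of_zero_le hN
  obtain ⟨P, Q, h1, h2, h3⟩ := hR
  let S := shiftPoly J a e K
  have hSQ : S * Q = X ^ M * P := eq_of_eventually (by
    filter_upwards [h, h3, eventually_ne_zero] with u hu hu' hu0
    have hMu : u ^ N * u ^ K = u ^ M := by rw [← zpow_natCast u K, ← zpow_add₀ hu0, hM, zpow_natCast]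
    rw [eval_mul, eval_mul, shiftPoly_eval J a e hK hu0, hu, eval_pow, eval_X, ← hu', ← hMu]
    ring)
  have hdvd : (X : k[X]) ^ M ∣ S := prime_X.pow_dvd_of_dvd_mul_right M (not_X_dvd h1) ⟨P, hSQ⟩
  refine ⟨fun N' hN' => ?_, ?_⟩
  · by_cases h0 : 0 ≤ N' + K
    · obtain ⟨i, hi⟩ := Int.eq_ofNat_of_zero_le h0
      have h4 := (X_pow_dvd_iff.mp hdvd) i (by omega)
      rw [shiftPoly_coeff J a e hK, show (i : ℤ) - K = N' by omega] at h4
      exact h4
    · classical
      rw [cls, Finset.sum_eq_zero]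
      intro j hj
      rw [Finset.mem_filter] at hj
      have := hK j hj.1
      omega
  · obtain ⟨S', hS'⟩ := hdvd
    rw [hS', _root_.mul_assoc] at hSQ
    have h5 := congrArg (eval 0) (mul_left_cancel₀ (pow_ne_zero M X_ne_zero) hSQ)
    rw [eval_mul, h2] at h5
    have h6 := shiftPoly_coeff J a e hK M
    rw [show shiftPoly J a e K = X ^ M * S' from hS', show (M : ℤ) - K = N by omega] at h6
    rw [← h6, ← mul_right_cancel₀ h1 h5, ← coeff_zero_eq_eval_zero]
    simpa using coeff_X_pow_mul S' M 0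

/-- Vanishing of the coefficients below the order, read off from a power. -/
theorem cls_eq_zero_of_pow [Infinite k] {N : ℤ} {m : ℕ} (hm : m ≠ 0) {R : k → k} {c : k} (hR : IsReg R c)
    (h : ∀ᶠ u in cofinite, lsum J a e u ^ m = u ^ (N * m) * R u) :
    ∀ N' < N, cls J a e N' = 0 := by
  obtain ⟨K, hN, hK⟩ := exists_shift_bound J e N
  obtain ⟨M, hM⟩ := Int.eq_ofNat_of_zero_le hN
  obtain ⟨P, Q, h1, h2, h3⟩ := hR
  let S := shiftPoly J a e K
  have hSQ : S ^ m * Q = (X ^ M) ^ m * P := eq_of_eventually (by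
    filter_upwards [h, h3, eventually_ne_zero] with u hu hu' hu0
    have hMu : u ^ (N * m) * (u ^ K) ^ m = (u ^ M) ^ m := by
      rw [zpow_mul, zpow_natCast, ← mul_pow, ← zpow_natCast u K, ← zpow_add₀ hu0, hM, zpow_natCast]
    rw [eval_mul, eval_mul, eval_pow, eval_pow, shiftPoly_eval J a e hK hu0, mul_pow, hu, eval_pow, eval_X, ← hu', ← hMu]
    ring)
  have hdvd : ((X : k[X]) ^ M) ^ m ∣ S ^ m := by
    rw [← pow_mul]
    exact prime_X.pow_dvd_of_dvd_mul_right _ (not_X_dvd h1) ⟨P, by rw [pow_mul]; exact hSQ⟩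
  have hdvd' : (X : k[X]) ^ M ∣ S := (UniqueFactorizationMonoid.pow_dvd_pow_iff_dvd hm).mp hdvd
  intro N' hN'
  by_cases h0 : 0 ≤ N' + K
  · obtain ⟨i, hi⟩ := Int.eq_ofNat_of_zero_le h0
    have h4 := (X_pow_dvd_iff.mp hdvd') i (by omega)
    rw [shiftPoly_coeff J a e hK, show (i : ℤ) - K = N' by omega] at h4
    exact h4
  · classical
    rw [cls, Finset.sum_eq_zero]
    intro j hj
    rw [Finset.mem_filter] at hj
    have := hK j hj.1
    omega

/-- A sum of powers that is not identically zero has an order. -/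
theorem exists_order (h : ∃ u : k, u ≠ 0 ∧ lsum J a e u ≠ 0) :
    ∃ (E : ℤ) (S : k[X]), S.eval 0 ≠ 0 ∧ ∀ u : k, u ≠ 0 → lsum J a e u = u ^ E * S.eval u := by
  obtain ⟨K, -, hK⟩ := exists_shift_bound J e 0
  obtain ⟨u₀, hu₀, h₀⟩ := h
  let S := shiftPoly J a e K
  have hS : S ≠ 0 := ne_zero_of_eval (u := u₀) (by
    rw [shiftPoly_eval J a e hK hu₀]; exact mul_ne_zero h₀ (pow_ne_zero _ hu₀))
  obtain ⟨S', hS', hnd⟩ := exists_eq_pow_rootMultiplicity_mul_and_not_dvd S hS 0
  rw [map_zero, sub_zero] at hS' hnd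
  refine ⟨(S.rootMultiplicity 0 : ℤ) - K, S', fun h => hnd (X_dvd_iff.mpr (by rwa [coeff_zero_eq_eval_zero])),
    fun u hu => ?_⟩
  have h1 : S.eval u = u ^ S.rootMultiplicity 0 * S'.eval u := by
    conv_lhs => rw [hS']
    rw [eval_mul, eval_pow, eval_X]
  rw [shiftPoly_eval J a e hK hu] at h1
  rw [zpow_sub₀ hu, zpow_natCast, zpow_natCast, div_mul_eq_mul_div, ← h1, mul_div_cancel_right₀ _ (pow_ne_zero K hu)]

end Laurent

end Groth.Agent.GIT36.Mu
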