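import Groth.Agent.GIT36.Mu.Weight
import Groth.Agent.GIT36.Mu.Germ

/-!
The order at zero of weight functions along an orbit curve, compared with the weight on the fibre over the limit point.
-/

set_option autoImplicit false
set_option backward.isDefEq.respectTransparency.types false
set_option linter.style.haveILetI false

universe u

open CategoryTheory CategoryTheory.Limits MonoidalCategory CartesianMonoidalCategory MonObj AlgebraicGeometry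
  Opposite Filter Groth.Agent.Mag88

noncomputable section

namespace Groth.Agent.GIT36.Mu

variable {k : Type u} [Field k]

/-- Functions on the target of a curve are regular germs along the curve. -/
theorem isReg_comp {Z : Over (St k)} (ψ : Ln k ⟶ Z) {O : Z.left.Opens} (s : Γ(Z.left, O))
    (h0 : ⊤ ≤ (lnPt 0 ≫ ψ).left ⁻¹ᵁ O) :
    IsReg (fun u => vz (lnPt u ≫ ψ) s) (vz (lnPt 0 ≫ ψ) s) ∧
      ∀ᶠ u in cofinite, ⊤ ≤ (lnPt u ≫ ψ).left ⁻¹ᵁ O := by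
  have hz : (lnPt (0 : k)).left (IsLocalRing.closedPoint k) ∈ ψ.left ⁻¹ᵁ O :=
    h0 (x := IsLocalRing.closedPoint k) trivial
  obtain ⟨P, Q, hzQ, hQO, h⟩ := exists_ratio hz (ψ.left.appLE O (ψ.left ⁻¹ᵁ O) le_rfl s)
  have hQ0 : Q.eval 0 ≠ 0 := (mem_lnPt_basicOpen 0 Q).mp hzQ
  have hland : ∀ u, Q.eval u ≠ 0 → ⊤ ≤ (lnPt u).left ⁻¹ᵁ (ψ.left ⁻¹ᵁ O) := fun u hu =>
    pt_mem _ (hQO ((mem_lnPt_basicOpen u Q).mpr hu))
  have hval : ∀ u, Q.eval u ≠ 0 → vz (lnPt u ≫ ψ) s * Q.eval u = P.eval u := fun u hu => by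
    rw [← h u (hland u hu) hu, ← vz_eq (hland u hu), vz_appLE ψ _ (hland u hu)]
  refine ⟨⟨P, Q, hQ0, (hval 0 hQ0).symm, ?_⟩, ?_⟩
  · filter_upwards [eventually_eval_ne_zero (ne_zero_of_eval hQ0)] with u hu
    exact hval u hu
  · filter_upwards [eventually_eval_ne_zero (ne_zero_of_eval hQ0)] with u hu
    exact hland u hu

variable [IsAlgClosed k] {G X : Over (St k)} [GrpObj G] {a : AlgGrp.Action G X} (B : GLinSh.LinBun G a)
  (l : Red.Gm (St k) ⟶ G) [IsMonHom l]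

/-- The curve in the total space through a point. -/
def orbV (v₀ : Pt k ⟶ B.V) (u : k) : Pt k ⟶ B.V :=
  open scoped Classical in if h : u = 0 then v₀ else lift (gpt (Units.mk0 u h) ≫ l) v₀ ≫ B.lift.act

theorem orbV_eq (v₀ : Pt k ⟶ B.V) {u : k} (h : u ≠ 0) :
    orbV B l v₀ u = lift (gpt (Units.mk0 u h) ≫ l) v₀ ≫ B.lift.act := dif_neg h

/-- The main estimate. -/
theorem cls_orbit {x : Pt k ⟶ X} (φ : Ln k ⟶ X)
    (hφ : ∀ u : kˣ, lnPt (u : k) ≫ φ = lift (gpt u ≫ l) x ≫ a.act) {w : ℤ}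
    (hw : HMNum.HasFibreWeight B l (lnPt 0 ≫ φ) w) {v₀ : Pt k ⟶ B.V} (hv₀ : v₀ ≫ B.π = x)
    {U₀ : X.left.Opens} {ζ₀ : Γ(B.V.left, B.π.left ⁻¹ᵁ U₀)} (hζ₀ : ζ₀ ∈ B.atlas.chart U₀)
    (hU₀ : ⊤ ≤ x.left ⁻¹ᵁ U₀) (hv₀1 : vz v₀ ζ₀ = 1)
    {n₀ : ℕ} {f₀ : Γ(B.V.left, ⊤)} (hn₀ : 1 ≤ n₀) (hf₀ : GLinSh.HasWeight B.atlas.chart n₀ f₀)
    (hy₀ : (lnPt 0 ≫ φ).left (IsLocalRing.closedPoint k) ∈ GLinSh.nonvanishing B.π f₀)
    {κ₀ : Type*} (J₀ : Finset κ₀) (a₀ : κ₀ → k) (e₀ : κ₀ → ℤ)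
    (hF : ∀ u : kˣ, gv (lift (gpt u ≫ l) v₀ ≫ B.lift.act) f₀ = lsum J₀ a₀ e₀ (u : k)) :
    cls J₀ a₀ e₀ (n₀ * w) ≠ 0 ∧
      ∀ (n : ℕ) (f : Γ(B.V.left, ⊤)), GLinSh.HasWeight B.atlas.chart n f → ∀ (h : Pt k ⟶ G)
        (κ : Type u) (J : Finset κ) (b : κ → k) (e : κ → ℤ),
        (∀ u : kˣ, gv (lift h (lift (gpt u ≫ l) v₀ ≫ B.lift.act) ≫ B.lift.act) f = lsum J b e (u : k)) →
          ∀ N : ℤ, N < n * w → cls J b e N = 0 := by
  classical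
  set y := lnPt 0 ≫ φ with hy
  obtain ⟨U, ζ, hζ, hU⟩ := exists_chart_at B y
  let vv := orbV B l v₀
  have hvπ : ∀ u : k, u ≠ 0 → vv u ≫ B.π = lnPt u ≫ φ := fun u hu => by
    change orbV B l v₀ u ≫ B.π = _
    rw [orbV_eq B l v₀ hu, act_π, hv₀, ← hφ (Units.mk0 u hu), Units.val_mk0]
  have hlandU : ∀ᶠ u in cofinite, ⊤ ≤ (vv u ≫ B.π).left ⁻¹ᵁ U := by
    obtain ⟨O, hO⟩ : ∃ c, c = U := ⟨U, rfl⟩
    filter_upwards [(isReg_comp φ (O := U) (1 : Γ(X.left, U)) hU).2, eventually_ne_zero] with u hu hu0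
    rw [hvπ u hu0]; exact hu
  let av : k → k := fun u => vz (vv u) ζ
  have hav : ∀ᶠ u in cofinite, av u ≠ 0 := by
    filter_upwards [hlandU, eventually_ne_zero] with u hu hu0
    change vz (vv u) ζ ≠ 0
    simp only [vv, orbV_eq B l v₀ hu0] at hu ⊢
    refine vz_act_ne_zero B hζ₀ hζ _ v₀ (by rw [hv₀]; exact hU₀) ?_ (by rw [hv₀1]; exact one_ne_zero)
    rw [act_π] at hu
    exact hu
  obtain ⟨c₀, hc₀, hc₀y⟩ := exists_weight_val B hf₀ hζ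
  let C₀ : k → k := fun u => vz (lnPt u ≫ φ) c₀
  have hC₀ : IsReg C₀ (vz y c₀) := (isReg_comp φ c₀ hU).1
  have hcy : vz y c₀ ≠ 0 := hc₀y y hU hy₀
  have hF' : ∀ᶠ u in cofinite, lsum J₀ a₀ e₀ u = C₀ u * av u ^ n₀ := by
    filter_upwards [hlandU, eventually_ne_zero] with u hu hu0
    have h1 := hc₀ (vv u) hu
    rw [hvπ u hu0] at h1
    rw [← h1]
    simp only [vv, orbV_eq B l v₀ hu0]
    exact (hF (Units.mk0 u hu0)).symm
  obtain ⟨E, S, hS, hES⟩ := exists_order J₀ a₀ e₀ (by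
    obtain ⟨u, h1, h2, h3, h4⟩ := (hF'.and (hav.and ((hC₀.eventually_ne_zero hcy).and eventually_ne_zero))).exists
    exact ⟨u, h4, by rw [h1]; exact mul_ne_zero h3 (pow_ne_zero _ h2)⟩)
  -- the order is the weight
  have hE : E = n₀ * w := by
    refine zpow_left_injective_field (k := k) fun s => ?_
    obtain ⟨cs, hcs⟩ := exists_lin_vz B hζ hζ
    let g : Pt k ⟶ G := gpt s ≫ l
    let ψ : Ln k ⟶ G ⊗ X := φ ≫ lift (toUnit X ≫ g) (𝟙 X)
    have hψ : ∀ p : Pt k ⟶ Ln k, p ≫ ψ = lift g (p ≫ φ) := fun p => by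
      simp only [ψ, ← Category.assoc]
      rw [comp_lift, Category.comp_id, ← Category.assoc, toUnit_unique ((p ≫ φ) ≫ toUnit X) (𝟙 _), Category.id_comp]
    have hgy : lift g y ≫ a.act = y := by
      have := hw.1 (Pt k) (𝟙 _) (gpt s)
      rwa [Category.id_comp] at this
    have hgyU : ⊤ ≤ (lift g y ≫ a.act).left ⁻¹ᵁ U := by rw [hgy]; exact hU
    have hcs0 : vz (lift g y) cs = (s : k) ^ w := by
      obtain ⟨v₁, hv₁, hv₁1⟩ := exists_over B hζ y hU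
      have h1 := hcs g v₁ (by rw [hv₁]; exact hU) (by rw [hv₁]; exact hgyU)
      rw [fibreWeight_vz B l hw hζ hU s v₁ hv₁, hv₁, hv₁1, _root_.mul_one, _root_.mul_one] at h1
      exact h1.symm
    have hψ0 : ⊤ ≤ (lnPt 0 ≫ ψ).left ⁻¹ᵁ (a.act.left ⁻¹ᵁ U ⊓ (snd G X).left ⁻¹ᵁ U) := by
      rw [hψ]; exact landing hU hgyU
    obtain ⟨hCs, hCsland⟩ := isReg_comp ψ cs hψ0
    rw [hψ, hcs0] at hCs
    have hscale : ∀ {P : k → Prop}, (∀ᶠ u in cofinite, P u) → ∀ᶠ u in cofinite, P ((s : k) * u) := fun h =>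
      ((mul_right_injective₀ s.ne_zero).tendsto_cofinite).eventually h
    have key : ∀ᶠ u in cofinite,
        (s : k) ^ E * S.eval ((s : k) * u) * C₀ u = C₀ ((s : k) * u) * vz (lnPt u ≫ ψ) cs ^ n₀ * S.eval u := by
      filter_upwards [hF', hscale hF', hscale hlandU, hlandU, eventually_ne_zero, hav] with u h1 h2 h3 h4 h5 h6
      have hsu : (s : k) * u ≠ 0 := mul_ne_zero s.ne_zero h5
      have e1 : vv ((s : k) * u) = lift g (vv u) ≫ B.lift.act := by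
        simp only [vv, orbV_eq B l v₀ hsu, orbV_eq B l v₀ h5]
        rw [← Mu99.act_mul, show g = gpt s ≫ l from rfl, ← MonObj.mul_comp, ← gpt_mul,
          show s * Units.mk0 u h5 = Units.mk0 ((s : k) * u) hsu from Units.ext rfl]
      have e2 : av ((s : k) * u) = vz (lnPt u ≫ ψ) cs * av u := by
        change vz (vv ((s : k) * u)) ζ = _
        rw [e1, hcs g (vv u) h4 (by rw [e1, act_π] at h3; exact h3), hψ, hvπ u h5]
      rw [hES _ hsu, e2, mul_pow] at h2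
      rw [hES u h5] at h1
      rw [mul_zpow] at h2
      refine mul_left_cancel₀ (zpow_ne_zero E h5) ?_
      calc u ^ E * ((s : k) ^ E * S.eval ((s : k) * u) * C₀ u)
          = ((s : k) ^ E * u ^ E * S.eval ((s : k) * u)) * C₀ u := by ring
        _ = C₀ ((s : k) * u) * (vz (lnPt u ≫ ψ) cs ^ n₀ * av u ^ n₀) * C₀ u := by rw [h2]
        _ = C₀ ((s : k) * u) * vz (lnPt u ≫ ψ) cs ^ n₀ * (C₀ u * av u ^ n₀) := by ring
        _ = _ := by rw [← h1]; ring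
    have hL : IsReg (fun u => (s : k) ^ E * S.eval ((s : k) * u) * C₀ u) ((s : k) ^ E * S.eval 0 * vz y c₀) :=
      ((IsReg.const _).mul ((IsReg.poly S).scale s.ne_zero)).mul hC₀
    have hR : IsReg (fun u => C₀ ((s : k) * u) * vz (lnPt u ≫ ψ) cs ^ n₀ * S.eval u)
        (vz y c₀ * ((s : k) ^ w) ^ n₀ * S.eval 0) :=
      ((hC₀.scale s.ne_zero).mul (hCs.pow n₀)).mul (IsReg.poly S)
    have h7 := (hL.congr key).unique hR
    rw [mul_comm (n₀ : ℤ) w, zpow_mul, zpow_natCast]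
    refine mul_left_cancel₀ hcy (mul_right_cancel₀ hS ?_)
    linear_combination h7
  subst hE
  refine ⟨?_, fun n f hf h κ J b e hb N hN => ?_⟩
  · rw [(cls_of_isReg J₀ a₀ e₀ (IsReg.poly S) (by
      filter_upwards [eventually_ne_zero] with u hu using hES u hu)).2]
    exact hS
  -- translates of other weight functions
  let ψ : Ln k ⟶ G ⊗ X := φ ≫ lift (toUnit X ≫ h) (𝟙 X)
  have hψ : ∀ p : Pt k ⟶ Ln k, p ≫ ψ = lift h (p ≫ φ) := fun p => by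
    simp only [ψ, ← Category.assoc]
    rw [comp_lift, Category.comp_id, ← Category.assoc, toUnit_unique ((p ≫ φ) ≫ toUnit X) (𝟙 _), Category.id_comp]
  obtain ⟨U₁, ζ₁, hζ₁, hU₁⟩ := exists_chart_at B (lift h y ≫ a.act)
  obtain ⟨ch, hch⟩ := exists_lin_vz B hζ hζ₁
  obtain ⟨c₁, hc₁, -⟩ := exists_weight_val B hf hζ₁
  obtain ⟨hCh, -⟩ := isReg_comp ψ ch (by rw [hψ]; exact landing hU hU₁)
  have hψ₁0 : ⊤ ≤ (lnPt 0 ≫ ψ ≫ a.act).left ⁻¹ᵁ U₁ := by rw [← Category.assoc, hψ]; exact hU₁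
  obtain ⟨hC₁, hC₁land⟩ := isReg_comp (ψ ≫ a.act) c₁ hψ₁0
  have hreg := ((hC₁.mul (hCh.pow n)).pow n₀).mul (((IsReg.poly S).mul (hC₀.inv hcy)).pow n)
  refine cls_eq_zero_of_pow J b e (N := n * w) (Nat.one_le_iff_ne_zero.mp hn₀) hreg ?_ N hN
  filter_upwards [hlandU, hC₁land, eventually_ne_zero, hF', hC₀.eventually_ne_zero hcy] with u hu hu1 hu0 h1 h2
  have e0 : lift h (vv u ≫ B.π) ≫ a.act = lnPt u ≫ ψ ≫ a.act := by rw [hvπ u hu0, ← Category.assoc, hψ]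
  have e3 : vz (lift h (vv u) ≫ B.lift.act) ζ₁ = vz (lnPt u ≫ ψ) ch * av u := by
    rw [hch h (vv u) hu (by rw [e0]; exact hu1), hψ, hvπ u hu0]
  have e4 : lsum J b e u = vz (lnPt u ≫ ψ ≫ a.act) c₁ * vz (lnPt u ≫ ψ) ch ^ n * av u ^ n := by
    have h4 := hc₁ (lift h (vv u) ≫ B.lift.act) (by rw [act_π, e0]; exact hu1)
    rw [act_π, e0, e3, mul_pow, ← _root_.mul_assoc] at h4
    rw [← h4]
    simp only [vv, orbV_eq B l v₀ hu0]
    exact (hb (Units.mk0 u hu0)).symm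
  have e5 : av u ^ n₀ = u ^ ((n₀ : ℤ) * w) * (S.eval u * (C₀ u)⁻¹) := by
    rw [← _root_.mul_assoc, ← hES u hu0, h1, mul_comm (C₀ u), mul_inv_cancel_right₀ h2]
  rw [e4, mul_pow, ← pow_mul (av u), mul_comm n n₀, pow_mul, e5, mul_pow,
    show (n : ℤ) * w * n₀ = (n₀ * w) * n by ring, zpow_mul _ ((n₀ : ℤ) * w), zpow_natCast]
  ring

end Groth.Agent.GIT36.Mu
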