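import Groth.Prelude.Def_HMNum
import Groth.Agent.Mag88.FormalBB2
import Groth.Agent.Mag88.Retract
import Groth.Agent.RedPts82.Points
import Mathlib.RingTheory.Localization.Away.Basic

/-!
The affine line over a field as a polynomial spectrum, values at rational points, and rational expressions of functions
on its opens.
-/

set_option autoImplicit false
set_option backward.isDefEq.respectTransparency.types false
set_option linter.style.haveILetI false

universe u

open CategoryTheory CategoryTheory.Limits MonoidalCategory CartesianMonoidalCategory MonObj AlgebraicGeometry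
  Opposite Polynomial Groth.Agent.Mag88

noncomputable section

namespace Groth.Agent.GIT36.Mu

/-- The base. -/
abbrev St (k : Type u) [Field k] : Scheme.{u} := Spec (CommRingCat.of k)

/-- The rational point. -/
abbrev Pt (k : Type u) [Field k] : Over (St k) := 𝟙_ (Over (St k))

section Ev

variable {S : Scheme.{u}} {T T' Z W : Over S}

/-- Pullback of a section along a point. -/
def ev (p : T ⟶ Z) {O : Z.left.Opens} (h : ⊤ ≤ p.left ⁻¹ᵁ O) : Γ(Z.left, O) →+* Γ(T.left, ⊤) :=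
  (p.left.appLE O ⊤ h).hom

theorem ev_congr {p q : T ⟶ Z} (e : p = q) {O : Z.left.Opens} (h : ⊤ ≤ p.left ⁻¹ᵁ O) (h' : ⊤ ≤ q.left ⁻¹ᵁ O)
    (s : Γ(Z.left, O)) : ev p h s = ev q h' s := by
  subst e; rfl

theorem ev_appLE (f : Z ⟶ W) {U : W.left.Opens} {O : Z.left.Opens} (e : O ≤ f.left ⁻¹ᵁ U) (p : T ⟶ Z)
    (h : ⊤ ≤ p.left ⁻¹ᵁ O) (s : Γ(W.left, U)) :
    ev p h (f.left.appLE U O e s) = ev (p ≫ f) (fun x hx => e (h hx)) s := by
  change (f.left.appLE U O e ≫ p.left.appLE O ⊤ h) s = _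
  rw [Scheme.Hom.appLE_comp_appLE]
  rfl

theorem ev_res {O O' : Z.left.Opens} (i : O' ≤ O) (p : T ⟶ Z) (h : ⊤ ≤ p.left ⁻¹ᵁ O') (s : Γ(Z.left, O)) :
    ev p h (Z.left.presheaf.map (homOfLE i).op s) = ev p (fun x hx => i (h hx)) s := by
  change (Z.left.presheaf.map (homOfLE i).op ≫ p.left.appLE O' ⊤ h) s = _
  rw [Scheme.Hom.map_appLE]
  rfl

theorem ev_comp (g : T' ⟶ T) (p : T ⟶ Z) {O : Z.left.Opens} (h : ⊤ ≤ p.left ⁻¹ᵁ O) (s : Γ(Z.left, O)) :
    g.left.appTop (ev p h s) = ev (g ≫ p) (fun _ _ => h trivial) s := by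
  have e : g.left.appTop = g.left.appLE ⊤ ⊤ le_top := g.left.app_eq_appLE
  change (p.left.appLE O ⊤ h ≫ g.left.appTop) s = _
  rw [e, Scheme.Hom.appLE_comp_appLE]
  rfl

theorem ev_top (p : T ⟶ Z) (s : Γ(Z.left, ⊤)) :
    ev p (O := (⊤ : Z.left.Opens)) (fun _ _ => trivial) s = p.left.appTop s := by
  simp [ev, Scheme.Hom.app_eq_appLE]

theorem gmFn_eq_aFn (g : T ⟶ Red.Gm S) : Red.gmFn g = aFn g (1 : ℤ) := RedPts82.gmFn_eq g

theorem unitOfPt_val (g : T ⟶ Red.Gm S) : (GmPts.unitOfPt g : Γ(T.left, ⊤)) = Red.gmFn g := rfl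

theorem coord_incl (g : T ⟶ Red.Gm S) : coord (g ≫ HMNum.incl S) = Red.gmFn g := by
  rw [gmFn_eq_aFn, coord]
  exact aFn_map _ _ _

theorem coord_origin (t : T ⟶ 𝟙_ (Over S)) : coord (t ≫ HMNum.origin S) = 0 := by
  rw [coord, HMNum.origin, ← Category.assoc, aFn_comp_faceMap, dif_neg]
  intro h
  exact one_ne_zero (AddSubmonoid.mem_bot.mp h)

end Ev

variable {k : Type u} [Field k] {Z : Over (St k)}

/-- The value at a rational point. -/
def val (p : Pt k ⟶ Z) {O : Z.left.Opens} (h : ⊤ ≤ p.left ⁻¹ᵁ O) : Γ(Z.left, O) →+* k :=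
  (Scheme.ΓSpecIso (CommRingCat.of k)).hom.hom.comp (ev p h)

theorem val_congr {p q : Pt k ⟶ Z} (e : p = q) {O : Z.left.Opens} (h : ⊤ ≤ p.left ⁻¹ᵁ O) (h' : ⊤ ≤ q.left ⁻¹ᵁ O)
    (s : Γ(Z.left, O)) : val p h s = val q h' s := by
  subst e; rfl

theorem val_appLE {W : Over (St k)} (f : Z ⟶ W) {U : W.left.Opens} {O : Z.left.Opens} (e : O ≤ f.left ⁻¹ᵁ U)
    (p : Pt k ⟶ Z) (h : ⊤ ≤ p.left ⁻¹ᵁ O) (s : Γ(W.left, U)) :
    val p h (f.left.appLE U O e s) = val (p ≫ f) (fun x hx => e (h hx)) s :=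
  congrArg _ (ev_appLE f e p h s)

theorem val_res {O O' : Z.left.Opens} (i : O' ≤ O) (p : Pt k ⟶ Z) (h : ⊤ ≤ p.left ⁻¹ᵁ O') (s : Γ(Z.left, O)) :
    val p h (Z.left.presheaf.map (homOfLE i).op s) = val p (fun x hx => i (h hx)) s :=
  congrArg _ (ev_res i p h s)

theorem pt_mem {O : Z.left.Opens} (p : Pt k ⟶ Z) (h : p.left (IsLocalRing.closedPoint k) ∈ O) :
    ⊤ ≤ p.left ⁻¹ᵁ O := fun x _ => by
  obtain rfl : x = IsLocalRing.closedPoint k := Subsingleton.elim (α := PrimeSpectrum k) _ _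
  exact h

theorem mem_basicOpen_iff_val {O : Z.left.Opens} (p : Pt k ⟶ Z) (h : ⊤ ≤ p.left ⁻¹ᵁ O) (s : Γ(Z.left, O)) :
    p.left (IsLocalRing.closedPoint k) ∈ Z.left.basicOpen s ↔ val p h s ≠ 0 := by
  have h1 : p.left ⁻¹ᵁ Z.left.basicOpen s = (Spec (CommRingCat.of k)).basicOpen (ev p h s) := by
    rw [Scheme.preimage_basicOpen]
    change _ = (Spec (CommRingCat.of k)).basicOpen (p.left.appLE O ⊤ h s)
    rw [Scheme.Hom.appLE, CommRingCat.comp_apply]
    exact ((Scheme.basicOpen_res (X := Spec (CommRingCat.of k)) _ (homOfLE h).op).trans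
      (inf_eq_right.mpr le_top)).symm
  change IsLocalRing.closedPoint k ∈ p.left ⁻¹ᵁ Z.left.basicOpen s ↔ _
  rw [h1, basicOpen_eq_of_affine']
  change ¬ ((Scheme.ΓSpecIso (CommRingCat.of k)).hom (ev p h s)) ∈ IsLocalRing.maximalIdeal k ↔ _
  rw [IsLocalRing.maximalIdeal_eq_bot, Ideal.mem_bot]
  rfl

/-- The rational point of a unit. -/
def gpt (u : kˣ) : Pt k ⟶ Red.Gm (St k) :=
  GmPts.ptOfUnit (Units.map (Scheme.ΓSpecIso (CommRingCat.of k)).inv.hom.toMonoidHom u)

theorem gpt_fn (u : kˣ) : Red.gmFn (gpt u) = (Scheme.ΓSpecIso (CommRingCat.of k)).inv (u : k) :=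
  congrArg Units.val (GmPts.unitOfPt_ptOfUnit (T := Pt k) _)

theorem gpt_mul (u v : kˣ) : gpt (u * v) = gpt u * gpt v := by
  refine RedPts82.gmFn_injective ?_
  rw [RedPts82.gmFn_mul, gpt_fn, gpt_fn, gpt_fn, Units.val_mul, map_mul]

theorem gpt_one : gpt (1 : kˣ) = 1 := by
  refine RedPts82.gmFn_injective ?_
  rw [RedPts82.gmFn_one, gpt_fn, Units.val_one, map_one]

variable (k)

/-- The polynomial affine line. -/
def Ln : Over (St k) := Over.mk (Spec.map (CommRingCat.ofHom (Polynomial.C : k →+* k[X])))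

variable {k}

/-- Polynomials as functions on the line. -/
def lnFn : k[X] →+* Γ((Ln k).left, ⊤) := (Scheme.ΓSpecIso (CommRingCat.of k[X])).inv.hom

/-- The coordinate morphism to the monoid line. -/
def toA : Ln k ⟶ HMNum.A1 (St k) := (exists_coord_eq (lnFn (Polynomial.X : k[X]))).choose

theorem coord_toA : coord (toA (k := k)) = lnFn Polynomial.X :=
  (exists_coord_eq (S := St k) (T := Ln k) (lnFn (Polynomial.X : k[X]))).choose_spec

/-- Constants as functions. -/
def cst (Z : Over (St k)) : k →+* Γ(Z.left, ⊤) := (gFn Z.hom).hom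

theorem lnFn_C (c : k) : lnFn (Polynomial.C c) = cst (Ln k) c :=
  congr($(Scheme.ΓSpecIso_inv_naturality (CommRingCat.ofHom (Polynomial.C : k →+* k[X]))).hom c)

/-- The morphism to the line with a given coordinate. -/
def toLn {T : Over (St k)} (b : Γ(T.left, ⊤)) : T ⟶ Ln k :=
  Over.homMk (T.left.toSpecΓ ≫ Spec.map (CommRingCat.ofHom (Polynomial.eval₂RingHom (cst T) b))) (by
    apply gFn_injective
    change gFn ((T.left.toSpecΓ ≫ Spec.map _) ≫ Spec.map (CommRingCat.ofHom (Polynomial.C : k →+* k[X]))) = _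
    rw [gFn_specMap, gFn_toSpec]
    ext c
    simp [cst])

theorem appTop_cst {T T' : Over (St k)} (g : T' ⟶ T) (c : k) : g.left.appTop (cst T c) = cst T' c := by
  change (gFn T.hom ≫ g.left.appTop) c = _
  rw [← gFn_comp, Over.w g]
  rfl

theorem toLn_fn {T : Over (St k)} (b : Γ(T.left, ⊤)) (P : k[X]) :
    (toLn b).left.appTop (lnFn P) = Polynomial.eval₂ (cst T) b P := by
  have h : gFn (R := CommRingCat.of k[X]) (toLn b).left =
      CommRingCat.ofHom (Polynomial.eval₂RingHom (cst T) b) :=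
    gFn_toSpec (Z := T.left) (R := CommRingCat.of k[X]) (CommRingCat.ofHom (Polynomial.eval₂RingHom (cst T) b))
  exact congr($(h).hom P)

theorem ln_hom_ext {T : Over (St k)} {f g : T ⟶ Ln k}
    (h : f.left.appTop (lnFn Polynomial.X) = g.left.appTop (lnFn Polynomial.X)) : f = g := by
  refine Over.OverMorphism.ext (gFn_injective (R := CommRingCat.of k[X]) ?_)
  refine CommRingCat.hom_ext (Polynomial.ringHom_ext (fun c => ?_) h)
  change f.left.appTop (lnFn (Polynomial.C c)) = g.left.appTop (lnFn (Polynomial.C c))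
  rw [lnFn_C, appTop_cst, appTop_cst]

theorem coord_comp_toA {T : Over (St k)} (f : T ⟶ Ln k) :
    coord (f ≫ toA) = f.left.appTop (lnFn Polynomial.X) := by
  rw [coord_comp, coord_toA]

/-- The inverse of the coordinate morphism. -/
def fromA : HMNum.A1 (St k) ⟶ Ln k := toLn (coord (𝟙 (HMNum.A1 (St k))))

theorem comp_fromA_fn {T : Over (St k)} (b : T ⟶ HMNum.A1 (St k)) :
    (b ≫ fromA).left.appTop (lnFn Polynomial.X) = coord b := by
  rw [Over.comp_left, Scheme.Hom.comp_appTop, CommRingCat.comp_apply, fromA, toLn_fn, Polynomial.eval₂_X,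
    ← coord_comp, Category.comp_id]

theorem fromA_toA : fromA ≫ toA = 𝟙 (HMNum.A1 (St k)) := by
  refine coord_ext ?_
  rw [coord_comp_toA]
  have := comp_fromA_fn (k := k) (𝟙 (HMNum.A1 (St k)))
  rwa [Category.id_comp] at this

theorem toA_fromA : toA ≫ fromA = 𝟙 (Ln k) := by
  refine ln_hom_ext ?_
  rw [comp_fromA_fn, coord_toA]
  simp

/-- The rational points of the line. -/
def lnPt (u : k) : Pt k ⟶ Ln k := toLn ((Scheme.ΓSpecIso (CommRingCat.of k)).inv u)

theorem cst_pt (c : k) : cst (Pt k) c = (Scheme.ΓSpecIso (CommRingCat.of k)).inv c := by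
  change gFn (𝟙 (St k)) c = _
  simp [gFn]

theorem val_lnPt (u : k) (P : k[X]) :
    val (lnPt u) (O := (⊤ : (Ln k).left.Opens)) (fun _ _ => trivial) (lnFn P) = P.eval u := by
  rw [val, RingHom.comp_apply, ev_top]
  change (Scheme.ΓSpecIso (CommRingCat.of k)).hom ((lnPt u).left.appTop (lnFn P)) = _
  rw [lnPt, toLn_fn]
  induction P using Polynomial.induction_on' with
  | add p q hp hq => rw [Polynomial.eval₂_add, map_add, hp, hq, Polynomial.eval_add]
  | monomial n c =>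
    rw [Polynomial.eval₂_monomial, map_mul, map_pow, cst_pt, Iso.inv_hom_id_apply, Iso.inv_hom_id_apply,
      Polynomial.eval_monomial]

theorem gpt_incl (u : kˣ) : gpt u ≫ HMNum.incl (St k) ≫ fromA = lnPt (u : k) := by
  refine ln_hom_ext ?_
  rw [← Category.assoc, comp_fromA_fn, coord_incl, gpt_fn, lnPt, toLn_fn, Polynomial.eval₂_X]

theorem origin_fromA : HMNum.origin (St k) ≫ fromA = lnPt (0 : k) := by
  refine ln_hom_ext ?_
  rw [comp_fromA_fn, lnPt, toLn_fn, Polynomial.eval₂_X, map_zero]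
  have := coord_origin (S := St k) (𝟙 (Pt k))
  rwa [Category.id_comp] at this

theorem mem_lnPt_basicOpen (u : k) (q : k[X]) :
    (lnPt u).left (IsLocalRing.closedPoint k) ∈ (Ln k).left.basicOpen (lnFn q) ↔ q.eval u ≠ 0 := by
  rw [mem_basicOpen_iff_val (lnPt u) (O := (⊤ : (Ln k).left.Opens)) (fun _ _ => trivial), val_lnPt]

/-- A function on an open of the line is rational, without pole at a given rational point of the open. -/
theorem exists_ratio {O : (Ln k).left.Opens} {z : (Ln k).left} (hz : z ∈ O) (s : Γ((Ln k).left, O)) :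
    ∃ P Q : k[X], z ∈ (Ln k).left.basicOpen (lnFn Q) ∧ (Ln k).left.basicOpen (lnFn Q) ≤ O ∧
      ∀ (u : k) (h : ⊤ ≤ (lnPt u).left ⁻¹ᵁ O), Q.eval u ≠ 0 → val (lnPt u) h s * Q.eval u = P.eval u := by
  have htop : IsAffineOpen (⊤ : (Ln k).left.Opens) := by
    have : IsAffine (Ln k).left := inferInstanceAs (IsAffine (Spec (CommRingCat.of k[X])))
    exact isAffineOpen_top _
  obtain ⟨f, hfO, hzf⟩ := htop.exists_basicOpen_le (V := O) ⟨z, hz⟩ trivial
  obtain ⟨q, rfl⟩ : ∃ q : k[X], lnFn q = f :=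
    ⟨(Scheme.ΓSpecIso (CommRingCat.of k[X])).hom f, Iso.hom_inv_id_apply _ _⟩
  let i := (Ln k).left.basicOpen_le (lnFn q)
  letI : Algebra Γ((Ln k).left, ⊤) Γ((Ln k).left, (Ln k).left.basicOpen (lnFn q)) :=
    ((Ln k).left.presheaf.map (homOfLE i).op).hom.toAlgebra
  have : IsLocalization.Away (lnFn q) Γ((Ln k).left, (Ln k).left.basicOpen (lnFn q)) :=
    htop.isLocalization_basicOpen _
  obtain ⟨n, a, ha⟩ := IsLocalization.Away.surj (lnFn q) ((Ln k).left.presheaf.map (homOfLE hfO).op s)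
  obtain ⟨p, rfl⟩ : ∃ p : k[X], lnFn p = a :=
    ⟨(Scheme.ΓSpecIso (CommRingCat.of k[X])).hom a, Iso.hom_inv_id_apply _ _⟩
  have hb : (Ln k).left.basicOpen (lnFn (q ^ (n + 1))) = (Ln k).left.basicOpen (lnFn q) := by
    rw [map_pow]
    exact Scheme.basicOpen_pow _ _ (Nat.succ_pos n)
  refine ⟨p * q, q ^ (n + 1), hb.ge hzf, hb.le.trans hfO, fun u h hu => ?_⟩
  rw [Polynomial.eval_pow] at hu
  have hu' : q.eval u ≠ 0 := fun e => hu (by simp [e])
  have hD : ⊤ ≤ (lnPt u).left ⁻¹ᵁ (Ln k).left.basicOpen (lnFn q) :=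
    pt_mem _ ((mem_lnPt_basicOpen u q).mpr hu')
  have h1 := congrArg (val (lnPt u) hD) ha
  rw [map_mul, map_pow] at h1
  simp only [RingHom.algebraMap_toAlgebra] at h1
  rw [val_res hfO, val_res i, val_res i, val_lnPt, val_lnPt] at h1
  rw [Polynomial.eval_pow, Polynomial.eval_mul, pow_succ, ← _root_.mul_assoc, h1]

end Groth.Agent.GIT36.Mu
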