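import Groth.Agent.GIT36.Mu.TorusChars
import Mathlib.AlgebraicGeometry.Morphisms.Affine

/-!
Finitely many characters occur in the translates of a function on a quasi-compact scheme with a torus action.
-/

set_option autoImplicit false
set_option backward.isDefEq.respectTransparency.types false
set_option linter.style.haveILetI false

universe u

open CategoryTheory CategoryTheory.Limits MonoidalCategory CartesianMonoidalCategory MonObj AlgebraicGeometry
  Opposite Groth.Agent.FinSub96

noncomputable section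

namespace Groth.Agent.GIT36.Mu

variable {k : Type u} [Field k] {T W : Over (St k)}

/-- Restriction of functions on a product to a slice through a rational point. -/
def sl (v : Pt k ⟶ W) : Γ((T ⊗ W).left, ⊤) →+* Γ(T.left, ⊤) :=
  (lift (𝟙 T) (toUnit T ≫ v)).left.appTop.hom

theorem sl_fst (v : Pt k ⟶ W) (a : Γ(T.left, ⊤)) : sl v ((fst T W).left.appTop a) = a := by
  change ((fst T W).left.appTop ≫ (lift (𝟙 T) (toUnit T ≫ v)).left.appTop) a = a
  rw [← Scheme.Hom.comp_appTop, ← Over.comp_left, lift_fst]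
  simp

theorem sl_snd (v : Pt k ⟶ W) (b : Γ(W.left, ⊤)) : sl (T := T) v ((snd T W).left.appTop b) = cst T (gv v b) := by
  change ((snd T W).left.appTop ≫ (lift (𝟙 T) (toUnit T ≫ v)).left.appTop) b = _
  rw [← Scheme.Hom.comp_appTop, ← Over.comp_left, lift_snd, Over.comp_left, Scheme.Hom.comp_appTop,
    CommRingCat.comp_apply]
  have h : v.left.appTop b = cst (Pt k) (gv v b) := by
    rw [cst_pt]
    exact (Iso.hom_inv_id_apply (Scheme.ΓSpecIso (CommRingCat.of k)) _).symm
  rw [h]
  exact appTop_cst _ _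

variable [GrpObj T]

/-- Functions on the product all whose slices lie in the span of finitely many characters. -/
def goodFns (T W : Over (St k)) [GrpObj T] : Subring Γ((T ⊗ W).left, ⊤) := by
  classical
  exact
  { carrier := {z | ∃ Λ : Finset Γ(T.left, ⊤), (∀ c ∈ Λ, IsCharFn c) ∧
      ∀ v : Pt k ⟶ W, sl v z ∈ Submodule.span k (Λ : Set Γ(T.left, ⊤))}
    one_mem' := ⟨{1}, fun c hc => by rw [Finset.mem_singleton.mp hc]; exact IsCharFn.one,
      fun v => by rw [map_one]; exact Submodule.subset_span (by simp)⟩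
    zero_mem' := ⟨∅, by simp, fun v => by rw [map_zero]; exact Submodule.zero_mem _⟩
    neg_mem' := fun {z} ⟨Λ, h1, h2⟩ => ⟨Λ, h1, fun v => by rw [map_neg]; exact Submodule.neg_mem _ (h2 v)⟩
    add_mem' := fun {z z'} ⟨Λ, h1, h2⟩ ⟨Λ', h1', h2'⟩ => ⟨Λ ∪ Λ', fun c hc => (Finset.mem_union.mp hc).elim (h1 c) (h1' c),
      fun v => by
        rw [map_add, Finset.coe_union, Submodule.span_union]
        exact Submodule.add_mem_sup (h2 v) (h2' v)⟩
    mul_mem' := fun {z z'} ⟨Λ, h1, h2⟩ ⟨Λ', h1', h2'⟩ => ⟨Finset.image₂ (· * ·) Λ Λ', fun c hc => by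
        obtain ⟨a, ha, b, hb, rfl⟩ := Finset.mem_image₂.mp hc
        exact (h1 a ha).mul (h1' b hb),
      fun v => by
        have h := Submodule.mul_mem_mul (h2 v) (h2' v)
        rw [Submodule.span_mul_span, ← map_mul] at h
        rw [Finset.coe_image₂]
        exact h⟩ }

theorem mem_goodFns [IsAlgClosed k] (hT : Red.IsTorus T) [IsAffine W.left] (z : Γ((T ⊗ W).left, ⊤)) :
    z ∈ goodFns T W := by
  classical
  have := isAffine_of_isTorus hT
  have hP : IsPullback (fst T W).left (snd T W).left T.hom W.hom := IsPullback.of_hasPullback T.hom W.hom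
  have h := isPushout_appTop_of_isPullback hP
  have h1 : ∀ a, (fst T W).left.appTop a ∈ goodFns T W := by
    intro a
    have ha : a ∈ Submodule.span k {c : Γ(T.left, ⊤) | IsCharFn c} := by
      rw [span_charFn_eq_top hT]; trivial
    obtain ⟨Λ, hΛ, ha⟩ := Submodule.mem_span_finite_of_mem_span ha
    exact ⟨Λ, fun c hc => hΛ hc, fun v => by rw [sl_fst]; exact ha⟩
  have h2 : ∀ b, (snd T W).left.appTop b ∈ goodFns T W := fun b =>
    ⟨{1}, fun c hc => by rw [Finset.mem_singleton.mp hc]; exact IsCharFn.one, fun v => by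
      rw [sl_snd, ← algebraMap_eq_cst, Algebra.algebraMap_eq_smul_one]
      exact Submodule.smul_mem _ _ (Submodule.subset_span (by simp))⟩
  let R := goodFns T W
  let inl : Γ(T.left, ⊤) ⟶ CommRingCat.of R := CommRingCat.ofHom ((fst T W).left.appTop.hom.codRestrict R h1)
  let inr : Γ(W.left, ⊤) ⟶ CommRingCat.of R := CommRingCat.ofHom ((snd T W).left.appTop.hom.codRestrict R h2)
  have hc : T.hom.appTop ≫ inl = W.hom.appTop ≫ inr := by
    refine CommRingCat.hom_ext (RingHom.ext fun x => Subtype.ext ?_)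
    exact congr($(h.w) x)
  have hid : h.desc inl inr hc ≫ CommRingCat.ofHom R.subtype = 𝟙 _ := by
    refine h.hom_ext ?_ ?_
    · rw [h.inl_desc_assoc, Category.comp_id]; rfl
    · rw [h.inr_desc_assoc, Category.comp_id]; rfl
  have := congr($hid z)
  change ((h.desc inl inr hc) z : R).1 = z at this
  rw [← this]
  exact ((h.desc inl inr hc) z : R).2

variable [IsAlgClosed k] {G V : Over (St k)} [GrpObj G]

/-- The translates of a function by a torus: finitely many characters suffice. -/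
theorem exists_charSet (hT : Red.IsTorus T) [CompactSpace V.left] (Φ : AlgGrp.Action G V) (i : T ⟶ G)
    (f : Γ(V.left, ⊤)) :
    ∃ Λ : Finset Γ(T.left, ⊤), (∀ c ∈ Λ, IsCharFn c) ∧ ∀ v : Pt k ⟶ V, ∃ co : Γ(T.left, ⊤) → k,
      ∀ t : Pt k ⟶ T, gv (lift (t ≫ i) v ≫ Φ.act) f = ∑ c ∈ Λ, co c * gv t c := by
  classical
  choose O hO hxO using fun x : V.left => (by
    obtain ⟨U, hU, hx, -⟩ := exists_isAffineOpen_mem_and_subset (x := x) (U := (⊤ : V.left.Opens)) trivial
    exact ⟨U, hU, hx⟩ : ∃ U : V.left.Opens, IsAffineOpen U ∧ x ∈ U)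
  obtain ⟨s, hs⟩ := isCompact_univ.elim_finite_subcover (fun x => (O x : Set V.left)) (fun x => (O x).isOpen)
    (fun x _ => Set.mem_iUnion.mpr ⟨x, hxO x⟩)
  let WO : V.left → Over (St k) := fun x => Over.mk ((O x).ι ≫ V.hom)
  let j : ∀ x, WO x ⟶ V := fun x => Over.homMk (O x).ι rfl
  have : ∀ x, IsAffine (WO x).left := fun x => hO x
  choose Λ hΛ hmem using fun x =>
    mem_goodFns hT (W := WO x) ((T ◁ j x).left.appTop (((i ▷ V) ≫ Φ.act).left.appTop f))
  refine ⟨s.biUnion Λ, fun c hc => ?_, fun v => ?_⟩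
  · obtain ⟨x, -, hcx⟩ := Finset.mem_biUnion.mp hc
    exact hΛ x c hcx
  obtain ⟨x, hx, hvx⟩ := Set.mem_iUnion₂.mp (hs (Set.mem_univ (v.left (IsLocalRing.closedPoint k))))
  have hr : Set.range v.left ⊆ Set.range (O x).ι := by
    rw [Scheme.Opens.range_ι]
    rintro _ ⟨z, rfl⟩
    exact pt_mem v hvx (x := z) trivial
  let v₀ : (Pt k).left ⟶ (O x).toScheme := IsOpenImmersion.lift (O x).ι v.left hr
  have hv₀ : v₀ ≫ (O x).ι = v.left := IsOpenImmersion.lift_fac _ _ hr
  let v' : Pt k ⟶ WO x := Over.homMk v₀ (by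
    change v₀ ≫ (O x).ι ≫ V.hom = _
    rw [← Category.assoc, hv₀]
    exact Over.w v)
  have hv' : v' ≫ j x = v := Over.OverMorphism.ext hv₀
  have hsub : sl v' ((T ◁ j x).left.appTop (((i ▷ V) ≫ Φ.act).left.appTop f)) ∈
      Submodule.span k ((s.biUnion Λ : Finset _) : Set Γ(T.left, ⊤)) :=
    Submodule.span_mono (Finset.coe_subset.mpr (Finset.subset_biUnion_of_mem Λ hx)) (hmem x v')
  obtain ⟨co, -, hco⟩ := Submodule.mem_span_finset.mp hsub
  refine ⟨co, fun t => ?_⟩
  have h1 : gv t (sl v' ((T ◁ j x).left.appTop (((i ▷ V) ≫ Φ.act).left.appTop f))) =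
      gv (lift (t ≫ i) v ≫ Φ.act) f := by
    change gv t ((lift (𝟙 T) (toUnit T ≫ v')).left.appTop _) = _
    rw [← gv_comp, ← gv_comp, ← gv_comp]
    congr 1
    simp only [Category.assoc, comp_lift_assoc, Category.comp_id, lift_whiskerLeft_assoc, lift_whiskerRight_assoc,
      hv']
    rw [← Category.assoc t (toUnit T), toUnit_unique (t ≫ toUnit T) (𝟙 _), Category.id_comp]
  rw [← h1, ← hco, map_sum]
  refine Finset.sum_congr rfl fun c _ => ?_
  rw [Algebra.smul_def, map_mul, algebraMap_eq_cst, gv_cst]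

end Groth.Agent.GIT36.Mu
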