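import Groth.Agent.GIT36.Mu.Expansion
import Groth.Agent.GIT36.Mu.Slices
import Mathlib.LinearAlgebra.LinearIndependent.Lemmas
import Mathlib.FieldTheory.IsAlgClosed.Basic

/-!
The numerical function on the one-parameter subgroups of a torus is the maximum of finitely many linear forms.
-/

set_option autoImplicit false
set_option backward.isDefEq.respectTransparency.types false
set_option linter.style.haveILetI false

universe u

open CategoryTheory CategoryTheory.Limits MonoidalCategory CartesianMonoidalCategory MonObj AlgebraicGeometry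
  Opposite Groth.Agent.Mag88

noncomputable section

namespace Groth.Agent.GIT36.Mu

variable {k : Type u} [Field k] [IsAlgClosed k] {G X T : Over (St k)} [GrpObj G] [GrpObj T]

open scoped Classical in
/-- The exponent of a character on a one-parameter subgroup. -/
def expo (χ : (Pt k ⟶ T) →* k) (l : Red.Gm (St k) ⟶ T) : ℤ :=
  if h : ∃ e : ℤ, ∀ u : kˣ, χ (gpt u ≫ l) = (u : k) ^ e then h.choose else 0

theorem expo_spec {χ : (Pt k ⟶ T) →* k} {l : Red.Gm (St k) ⟶ T}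
    (h : ∃ e : ℤ, ∀ u : kˣ, χ (gpt u ≫ l) = (u : k) ^ e) (u : kˣ) : χ (gpt u ≫ l) = (u : k) ^ expo χ l := by
  rw [expo, dif_pos h]; exact h.choose_spec u

theorem expo_mul {χ : (Pt k ⟶ T) →* k} {l₁ l₂ : Red.Gm (St k) ⟶ T}
    (h₁ : ∃ e : ℤ, ∀ u : kˣ, χ (gpt u ≫ l₁) = (u : k) ^ e)
    (h₂ : ∃ e : ℤ, ∀ u : kˣ, χ (gpt u ≫ l₂) = (u : k) ^ e) :
    expo χ (l₁ * l₂) = expo χ l₁ + expo χ l₂ := by
  have h : ∀ u : kˣ, χ (gpt u ≫ (l₁ * l₂)) = (u : k) ^ (expo χ l₁ + expo χ l₂) := fun u => by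
    rw [MonObj.comp_mul, map_mul, expo_spec h₁, expo_spec h₂, zpow_add₀ u.ne_zero]
  exact zpow_left_injective_field fun u => by rw [← expo_spec ⟨_, h⟩ u, h u]

theorem IsCharFn.exists_expo {c : Γ(T.left, ⊤)} (hc : IsCharFn c) (l : Red.Gm (St k) ⟶ T) [IsMonHom l] :
    ∃ e : ℤ, ∀ u : kˣ, hc.hom (gpt u ≫ l) = (u : k) ^ e := by
  obtain ⟨e, he⟩ := exists_zpow_gv (hc.1.map l.left.appTop.hom) (by
    have h := gv_comp (1 : Pt k ⟶ Red.Gm (St k)) l c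
    rw [MonObj.one_comp, hc.gv_one] at h
    exact h.symm)
  exact ⟨e, fun u => (gv_comp (gpt u) l c).trans (he u)⟩

variable {a : AlgGrp.Action G X}

theorem exists_homSet (hT : Red.IsTorus T) (i : T ⟶ G) (B : GLinSh.LinBun G a) [CompactSpace B.V.left]
    (f : Γ(B.V.left, ⊤)) :
    ∃ Λ : Finset ((Pt k ⟶ T) →* k),
      (∀ χ ∈ Λ, ∀ (l : Red.Gm (St k) ⟶ T) [IsMonHom l], ∃ e : ℤ, ∀ u : kˣ, χ (gpt u ≫ l) = (u : k) ^ e) ∧
      ∀ v : Pt k ⟶ B.V, ∃ co : ((Pt k ⟶ T) →* k) → k,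
        ∀ t : Pt k ⟶ T, gv (lift (t ≫ i) v ≫ B.lift.act) f = ∑ χ ∈ Λ, co χ * χ t := by
  classical
  obtain ⟨Λ, hΛ, hexp⟩ := exists_charSet hT B.lift i f
  let ρ : {c // c ∈ Λ} → ((Pt k ⟶ T) →* k) := fun c => (hΛ c.1 c.2).hom
  refine ⟨Λ.attach.image ρ, fun χ hχ l _ => ?_, fun v => ?_⟩
  · obtain ⟨c, -, rfl⟩ := Finset.mem_image.mp hχ
    exact (hΛ c.1 c.2).exists_expo l
  · obtain ⟨co, hco⟩ := hexp v
    refine ⟨fun χ => ∑ c ∈ Λ.attach with ρ c = χ, co c.1, fun t => ?_⟩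
    rw [hco t, ← Finset.sum_attach Λ, ← Finset.sum_fiberwise_of_maps_to (g := ρ)
      (fun c hc => Finset.mem_image_of_mem ρ hc)]
    refine Finset.sum_congr rfl fun χ _ => ?_
    rw [Finset.sum_mul]
    refine Finset.sum_congr rfl fun c hc => ?_
    rw [← (Finset.mem_filter.mp hc).2]
    rfl

theorem eq_zero_of_sum {Λ : Finset ((Pt k ⟶ T) →* k)} {co : ((Pt k ⟶ T) →* k) → k}
    (h : ∀ t : Pt k ⟶ T, ∑ χ ∈ Λ, co χ * χ t = 0) : ∀ χ ∈ Λ, co χ = 0 := by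
  refine linearIndependent_iff'.mp (linearIndependent_monoidHom (Pt k ⟶ T) k) Λ co (funext fun t => ?_)
  simpa [Finset.sum_apply] using h t

theorem exists_functionals (hT : Red.IsTorus T) (i : T ⟶ G) [IsMonHom i] [IsProper X.hom]
    (a : AlgGrp.Action G X) (B : GLinSh.LinBun G a) (hB : HMNum.AmpleCover B) :
    ∃ (n : ℕ) (L : Fin n → (Red.Gm (St k) ⟶ T) → ℚ),
      (∀ (j : Fin n) (l₁ l₂ : Red.Gm (St k) ⟶ T) [IsMonHom l₁] [IsMonHom l₂],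
          L j (l₁ * l₂) = L j l₁ + L j l₂) ∧
      ∀ (x : Pt k ⟶ X), ∃ I : Finset (Fin n),
        ∀ (l : Red.Gm (St k) ⟶ T) [IsMonHom l] (m : ℤ),
          HMNum.IsMu B (l ≫ i) x m ↔ ∃ j ∈ I, (m : ℚ) = L j l ∧ ∀ j' ∈ I, L j' l ≤ L j l := by
  classical
  obtain ⟨hcomp, hcov⟩ := hB
  choose d f hd hf hmem O hO hOa using hcov
  obtain ⟨s, hs⟩ := isCompact_univ.elim_finite_subcover (fun x => (O x : Set X.left)) (fun x => (O x).isOpen)
    (fun x _ => Set.mem_iUnion.mpr ⟨x, by rw [hO x]; exact hmem x⟩)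
  haveI := B.atlas.affine
  haveI : CompactSpace B.V.left := QuasiCompact.compactSpace_of_compactSpace B.π.left
  choose Λ hΛ hexp using fun x => exists_homSet hT i B (f x)
  let Idx := {p // p ∈ s.sigma Λ}
  let en := Fintype.equivFin Idx
  let L : Idx → (Red.Gm (St k) ⟶ T) → ℚ := fun p l => -(expo p.1.2 l : ℚ) / (d p.1.1 : ℚ)
  refine ⟨Fintype.card Idx, fun j => L (en.symm j), fun j l₁ l₂ _ _ => ?_, fun x => ?_⟩
  · have hp := (Finset.mem_sigma.mp (en.symm j).2).2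
    simp only [L]
    rw [expo_mul (hΛ _ _ hp l₁) (hΛ _ _ hp l₂)]
    push_cast
    ring
  obtain ⟨U₀, ζ₀, hζ₀, hU₀⟩ := exists_chart_at B x
  obtain ⟨v₀, hv₀, hv₀1⟩ := exists_over B hζ₀ x hU₀
  choose co hco using fun p => hexp p v₀
  refine ⟨Finset.univ.filter fun j => co (en.symm j).1.1 (en.symm j).1.2 ≠ 0, fun l _ m => ?_⟩
  obtain ⟨φ, hφ, hlim⟩ := exists_curve a (l ≫ i) x
  obtain ⟨w, hw⟩ := exists_fibreWeight B (l ≫ i) (Mu99.isFixedBy_of_isLimitPt (l ≫ i) hlim)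
  obtain ⟨p₀, hp₀s, hy₀⟩ := Set.mem_iUnion₂.mp
    (hs (Set.mem_univ ((lnPt 0 ≫ φ).left (IsLocalRing.closedPoint k))))
  have hy₀' : (lnPt 0 ≫ φ).left (IsLocalRing.closedPoint k) ∈ GLinSh.nonvanishing B.π (f p₀) := by
    rw [← hO p₀]; exact hy₀
  have hval : ∀ (p : X.left) (t : Pt k ⟶ T) (u : kˣ),
      gv (lift (t ≫ i) (lift (gpt u ≫ l ≫ i) v₀ ≫ B.lift.act) ≫ B.lift.act) (f p) =
        lsum (Λ p) (fun χ => co p χ * χ t) (fun χ => expo χ l) (u : k) := by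
    intro p t u
    rw [← Mu99.act_mul, ← Category.assoc (gpt u) l i, ← MonObj.mul_comp, hco p, lsum]
    refine Finset.sum_congr rfl fun χ hχ => ?_
    rw [map_mul, expo_spec (hΛ p χ hχ l)]
    ring
  obtain ⟨hne, hle⟩ := cls_orbit B (l ≫ i) φ hφ hw hv₀ hζ₀ hU₀ hv₀1 (hd p₀) (hf p₀) hy₀'
    (Λ p₀) (co p₀) (fun χ => expo χ l) (fun u => by
      rw [← Category.assoc, hco p₀, lsum]
      refine Finset.sum_congr rfl fun χ hχ => ?_
      rw [expo_spec (hΛ p₀ χ hχ l)])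
  have hbound : ∀ p : Idx, co p.1.1 p.1.2 ≠ 0 → L p l ≤ ((-w : ℤ) : ℚ) := by
    intro p hp
    obtain ⟨-, hpΛ⟩ := Finset.mem_sigma.mp p.2
    have hge : (d p.1.1 : ℤ) * w ≤ expo p.1.2 l := by
      by_contra hlt
      rw [not_le] at hlt
      refine hp (eq_zero_of_sum (Λ := (Λ p.1.1).filter fun χ => expo χ l = expo p.1.2 l) (fun t => ?_)
        p.1.2 (Finset.mem_filter.mpr ⟨hpΛ, rfl⟩))
      have h := hle (d p.1.1) (f p.1.1) (hf p.1.1) (t ≫ i) _ (Λ p.1.1)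
        (fun χ => co p.1.1 χ * χ t) (fun χ => expo χ l) (hval p.1.1 t) (expo p.1.2 l) hlt
      unfold cls at h
      convert h
    have hdpos : (0 : ℚ) < (d p.1.1 : ℚ) := by exact_mod_cast hd p.1.1
    have hge' : ((d p.1.1 : ℤ) : ℚ) * (w : ℚ) ≤ (expo p.1.2 l : ℚ) := by exact_mod_cast hge
    simp only [L]
    rw [div_le_iff₀ hdpos]
    push_cast at hge' ⊢
    linarith
  obtain ⟨χ₀, hχ₀, hχ₀ne⟩ : ∃ χ ∈ (Λ p₀).filter (fun χ => expo χ l = (d p₀ : ℤ) * w), co p₀ χ ≠ 0 := by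
    by_contra hall
    push Not at hall
    refine hne ?_
    unfold cls
    exact Finset.sum_eq_zero fun χ hχ => hall χ (by convert hχ)
  obtain ⟨hχ₀Λ, hχ₀e⟩ := Finset.mem_filter.mp hχ₀
  let q : Idx := ⟨⟨p₀, χ₀⟩, Finset.mem_sigma.mpr ⟨hp₀s, hχ₀Λ⟩⟩
  have hq : L q l = ((-w : ℤ) : ℚ) := by
    simp only [L, q]
    rw [hχ₀e]
    have : (d p₀ : ℚ) ≠ 0 := by have := hd p₀; positivity
    push_cast
    field_simp
  have hmu : HMNum.IsMu B (l ≫ i) x m ↔ m = -w := by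
    constructor
    · rintro ⟨y, hy, hw'⟩
      rw [Mu99.limit_unique (l ≫ i) hy hlim] at hw'
      have := fibreWeight_unique B (l ≫ i) hw hw'
      omega
    · rintro rfl
      exact ⟨_, hlim, by rwa [neg_neg]⟩
  rw [hmu]
  simp only [Finset.mem_filter, Finset.mem_univ, true_and]
  constructor
  · rintro rfl
    refine ⟨en q, by rw [Equiv.symm_apply_apply]; exact hχ₀ne, by rw [Equiv.symm_apply_apply, hq], fun j hj => ?_⟩
    rw [Equiv.symm_apply_apply, hq]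
    exact hbound _ hj
  · rintro ⟨j, hj, hm, hmax⟩
    have h1 := hbound _ hj
    have h2 := hmax (en q) (by rw [Equiv.symm_apply_apply]; exact hχ₀ne)
    rw [Equiv.symm_apply_apply, hq] at h2
    exact_mod_cast hm.trans (le_antisymm h1 h2)

theorem isMu_mul_le (hT : Red.IsTorus T) (i : T ⟶ G) [IsMonHom i] [Mono i] [IsProper X.hom]
    (a : AlgGrp.Action G X) (B : GLinSh.LinBun G a) (hB : HMNum.AmpleCover B) (x : Pt k ⟶ X)
    (l₁ l₂ : Red.Gm (St k) ⟶ T) [IsMonHom l₁] [IsMonHom l₂] [IsMonHom ((l₁ * l₂) ≫ i)]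
    (m₁ m₂ m : ℤ) (h₁ : HMNum.IsMu B (l₁ ≫ i) x m₁) (h₂ : HMNum.IsMu B (l₂ ≫ i) x m₂)
    (h : HMNum.IsMu B ((l₁ * l₂) ≫ i) x m) : m ≤ m₁ + m₂ := by
  have : IsMonHom (l₁ * l₂) :=
    { one_hom := by rw [← cancel_mono i, Category.assoc, IsMonHom.one_hom, IsMonHom.one_hom]
      mul_hom := by
        rw [← cancel_mono i, Category.assoc, Category.assoc, IsMonHom.mul_hom, IsMonHom.mul_hom,
          tensorHom_comp_tensorHom_assoc] }
  obtain ⟨n, L, hadd, hmax⟩ := exists_functionals hT i a B hB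
  obtain ⟨I, hI⟩ := hmax x
  obtain ⟨j, hj, hm, -⟩ := (hI (l₁ * l₂) m).mp h
  obtain ⟨j₁, -, hm₁, hb₁⟩ := (hI l₁ m₁).mp h₁
  obtain ⟨j₂, -, hm₂, hb₂⟩ := (hI l₂ m₂).mp h₂
  have h3 : (m : ℚ) ≤ ((m₁ + m₂ : ℤ) : ℚ) := by
    rw [hm, hadd, Int.cast_add, hm₁, hm₂]
    exact add_le_add (hb₁ j hj) (hb₂ j hj)
  exact_mod_cast h3

end Groth.Agent.GIT36.Mu
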