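import Groth.Agent.GIT36.Mu.Fibre
import Groth.Agent.GIT36.Mu.Curve

/-!
Units on the multiplicative group, and the weight on the fibre at a fixed rational point.
-/

set_option autoImplicit false
set_option backward.isDefEq.respectTransparency.types false
set_option linter.style.haveILetI false

universe u

open CategoryTheory CategoryTheory.Limits MonoidalCategory CartesianMonoidalCategory MonObj AlgebraicGeometry
  Opposite Polynomial Groth.Agent.Mag88

noncomputable section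

namespace Groth.Agent.GIT36.Mu

variable {k : Type u} [Field k]

theorem lnFn_injective : Function.Injective (lnFn (k := k)) :=
  (Scheme.ΓSpecIso (CommRingCat.of k[X])).commRingCatIsoToRingEquiv.symm.injective

theorem exists_units_punct {s : Γ((Ln k).left, punct k)} (hs : IsUnit s) :
    ∃ (c : k) (j n : ℕ), s * (Ln k).left.presheaf.map (homOfLE le_top).op (lnFn Polynomial.X) ^ n =
      (Ln k).left.presheaf.map (homOfLE le_top).op (lnFn (Polynomial.C c * Polynomial.X ^ j)) := by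
  have : IsAffine (Ln k).left := inferInstanceAs (IsAffine (Spec (CommRingCat.of k[X])))
  have htop : IsAffineOpen (⊤ : (Ln k).left.Opens) := isAffineOpen_top _
  letI : Algebra Γ((Ln k).left, ⊤) Γ((Ln k).left, punct k) :=
    ((Ln k).left.presheaf.map (homOfLE (le_top : punct k ≤ ⊤)).op).hom.toAlgebra
  have hloc : IsLocalization.Away (lnFn (Polynomial.X : k[X])) Γ((Ln k).left, punct k) :=
    htop.isLocalization_basicOpen _
  have hinj : Function.Injective (algebraMap Γ((Ln k).left, ⊤) Γ((Ln k).left, punct k)) := by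
    have : IsDomain Γ((Ln k).left, ⊤) :=
      (Scheme.ΓSpecIso (CommRingCat.of k[X])).commRingCatIsoToRingEquiv.toMulEquiv.isDomain (k[X])
    refine IsLocalization.injective Γ((Ln k).left, punct k) (M := Submonoid.powers (lnFn (Polynomial.X : k[X])))
      (powers_le_nonZeroDivisors_of_noZeroDivisors ?_)
    exact fun h => Polynomial.X_ne_zero (lnFn_injective (h.trans (map_zero _).symm))
  obtain ⟨s', hs'⟩ := hs.exists_right_inv
  obtain ⟨n, p, hp⟩ := IsLocalization.Away.surj (lnFn (Polynomial.X : k[X])) s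
  obtain ⟨m, q, hq⟩ := IsLocalization.Away.surj (lnFn (Polynomial.X : k[X])) s'
  obtain ⟨P, rfl⟩ : ∃ P : k[X], lnFn P = p :=
    ⟨(Scheme.ΓSpecIso (CommRingCat.of k[X])).hom p, Iso.hom_inv_id_apply _ _⟩
  obtain ⟨Q, rfl⟩ : ∃ Q : k[X], lnFn Q = q :=
    ⟨(Scheme.ΓSpecIso (CommRingCat.of k[X])).hom q, Iso.hom_inv_id_apply _ _⟩
  have hPQ : P * Q = Polynomial.X ^ (n + m) := by
    apply lnFn_injective
    apply hinj
    rw [map_mul, map_mul, ← hp, ← hq, map_pow, map_pow, pow_add,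
      show ∀ z : Γ((Ln k).left, punct k), s * z ^ n * (s' * z ^ m) = s * s' * (z ^ n * z ^ m) from
        fun z => by ring, hs', _root_.one_mul]
  obtain ⟨j, -, hj⟩ := (dvd_prime_pow Polynomial.prime_X _).mp (Dvd.intro _ hPQ)
  obtain ⟨w, hw⟩ := hj.symm
  obtain ⟨c, -, hc⟩ := Polynomial.isUnit_iff.mp w.isUnit
  refine ⟨c, j, n, ?_⟩
  rw [hc, ← mul_comm (Polynomial.X ^ j), hw]
  exact hp

/-- The coordinate of the multiplicative group. -/
abbrev zFn (k : Type u) [Field k] : Γ((Red.Gm (St k)).left, ⊤) := Red.gmFn (𝟙 (Red.Gm (St k)))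

theorem appTop_zFn {T' : Over (St k)} (g : T' ⟶ Red.Gm (St k)) :
    g.left.appTop (zFn k) = (GmPts.unitOfPt g : Γ(T'.left, ⊤)) := by
  rw [unitOfPt_val, zFn, ← RedPts82.gmFn_comp, Category.comp_id]

theorem gv_unitOfPt (u : kˣ) : gv (𝟙 (Pt k)) (GmPts.unitOfPt (gpt u) : Γ((Pt k).left, ⊤)) = (u : k) := by
  rw [unitOfPt_val, gpt_fn, gv, RingHom.comp_apply]
  simp

theorem gv_gpt_zFn (u : kˣ) : gv (gpt u) (zFn k) = (u : k) := by
  have h := gv_comp (𝟙 (Pt k)) (gpt u) (zFn k)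
  rw [Category.id_comp, appTop_zFn, gv_unitOfPt] at h
  exact h

/-- An invertible function on the multiplicative group with value one at one is a power of the coordinate. -/
theorem exists_zpow {r : Γ((Red.Gm (St k)).left, ⊤)} (hr : IsUnit r) (h1 : gv (1 : Pt k ⟶ _) r = 1) :
    ∃ w : ℤ, ∀ (T' : Over (St k)) (g : T' ⟶ Red.Gm (St k)),
      g.left.appTop r = ((GmPts.unitOfPt g ^ w : (Γ(T'.left, ⊤))ˣ) : Γ(T'.left, ⊤)) := by
  let r' : Γ((Punct k).left, ⊤) := (punctToGm k).left.appTop r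
  obtain ⟨s, hs⟩ := (ConcreteCategory.bijective_of_isIso
    ((punct k).ι.appLE (punct k) ⊤ (punct k).ι_preimage_self.ge)).2 r'
  have hsu : IsUnit s := by
    refine (isUnit_map_iff
      (asIso ((punct k).ι.appLE (punct k) ⊤ (punct k).ι_preimage_self.ge)).commRingCatIsoToRingEquiv s).mp ?_
    change IsUnit (((punct k).ι.appLE (punct k) ⊤ (punct k).ι_preimage_self.ge) s)
    rw [hs]
    exact hr.map (punctToGm k).left.appTop.hom
  obtain ⟨c, j, n, hcj⟩ := exists_units_punct hsu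
  have hG : ⊤ ≤ (HMNum.incl (St k) ≫ fromA).left ⁻¹ᵁ punct k := incl_mem_punct
  have hr' : ev (HMNum.incl (St k) ≫ fromA) hG s = r := by
    have h2 : (gmToPunct k).left.appTop r' = r := by
      change ((punctToGm k).left.appTop ≫ (gmToPunct k).left.appTop) r = r
      rw [← Scheme.Hom.comp_appTop, ← Over.comp_left, gmToPunct_punctToGm]
      simp
    have h3 := ev_comp (gmToPunct k) (punctι k) (O := punct k) (punct k).ι_preimage_self.ge s
    rw [ev_congr gmToPunct_ι _ hG] at h3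
    rw [← h3]
    change (gmToPunct k).left.appTop ((punct k).ι.appLE (punct k) ⊤ (punct k).ι_preimage_self.ge s) = r
    rw [hs, h2]
  have hX : (HMNum.incl (St k) ≫ fromA).left.appTop (lnFn Polynomial.X) = zFn k := by
    rw [comp_fromA_fn]
    have := coord_incl (S := St k) (𝟙 (Red.Gm (St k)))
    rwa [Category.id_comp] at this
  have hp : r * zFn k ^ n = cst _ c * zFn k ^ j := by
    have h := congrArg (ev (HMNum.incl (St k) ≫ fromA) hG) hcj
    rw [map_mul, map_pow, hr', ev_res, ev_res, ev_top, ev_top, hX, map_mul, map_mul, map_pow, map_pow, hX,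
      lnFn_C, appTop_cst] at h
    exact h
  have hc : c = 1 := by
    have hz : gv (1 : Pt k ⟶ Red.Gm (St k)) (zFn k) = 1 := by
      rw [← gpt_one, gv_gpt_zFn, Units.val_one]
    have h := congrArg (gv (1 : Pt k ⟶ Red.Gm (St k))) hp
    rw [map_mul, map_mul, map_pow, map_pow, hz, gv_cst, h1, one_pow, one_pow, _root_.mul_one, _root_.mul_one] at h
    exact h.symm
  refine ⟨(j : ℤ) - n, fun T' g => ?_⟩
  have h := congrArg g.left.appTop.hom hp
  rw [map_mul, map_pow, map_mul, map_pow, appTop_cst, appTop_zFn, hc, map_one, _root_.one_mul] at h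
  rw [zpow_sub, Units.val_mul, zpow_natCast, zpow_natCast, Units.eq_mul_inv_iff_mul_eq, Units.val_pow_eq_pow_val,
    Units.val_pow_eq_pow_val]
  exact h

theorem exists_zpow_gv {r : Γ((Red.Gm (St k)).left, ⊤)} (hr : IsUnit r) (h1 : gv (1 : Pt k ⟶ _) r = 1) :
    ∃ w : ℤ, ∀ u : kˣ, gv (gpt u) r = (u : k) ^ w := by
  obtain ⟨w, hw⟩ := exists_zpow hr h1
  refine ⟨w, fun u => ?_⟩
  have h := gv_comp (𝟙 (Pt k)) (gpt u) r
  rw [Category.id_comp, hw] at h
  rw [h]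
  have h2 := congrArg Units.val (map_zpow (Units.map ((gv (𝟙 (Pt k))).toMonoidHom)) (GmPts.unitOfPt (gpt u)) w)
  rw [Units.val_zpow_eq_zpow_val] at h2
  refine h2.trans ?_
  congr 1
  exact gv_unitOfPt u

theorem zpow_left_injective_field [Infinite k] {m n : ℤ} (h : ∀ u : kˣ, (u : k) ^ m = (u : k) ^ n) : m = n := by
  classical
  by_contra hne
  wlog hlt : n < m generalizing m n
  · exact this (fun u => (h u).symm) (Ne.symm hne) (by omega)
  obtain ⟨d, hd, rfl⟩ : ∃ d : ℕ, 0 < d ∧ m = n + d := ⟨(m - n).toNat, by omega, by omega⟩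
  obtain ⟨u, hu⟩ := Infinite.exists_notMem_finset ((Polynomial.X ^ d - 1 : k[X]).roots.toFinset ∪ {0})
  simp only [Finset.mem_union, Multiset.mem_toFinset, Finset.mem_singleton, not_or] at hu
  have h' := h (Units.mk0 u hu.2)
  rw [Units.val_mk0, zpow_add₀ hu.2, zpow_natCast] at h'
  refine hu.1 ((Polynomial.mem_roots (Polynomial.monic_X_pow_sub_C (1 : k) hd.ne').ne_zero).mpr ?_)
  simp [Polynomial.IsRoot, (mul_eq_left₀ (zpow_ne_zero n hu.2)).mp h']

variable {G X : Over (St k)} [GrpObj G] {a : AlgGrp.Action G X} (B : GLinSh.LinBun G a)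
  (l : Red.Gm (St k) ⟶ G) [IsMonHom l]

theorem exists_fibreWeight {y : Pt k ⟶ X} (hy : HMNum.IsFixedBy a l y) :
    ∃ w : ℤ, HMNum.HasFibreWeight B l y w := by
  obtain ⟨U, ζ, hζ, hU⟩ := exists_chart_at B y
  obtain ⟨c, hc⟩ := exists_lin B hζ hζ
  obtain ⟨v₁, hv₁, hζ₁⟩ := exists_over B hζ y hU
  have hζ₁' : ev v₁ (over_mem B hv₁ hU) ζ = 1 := by
    rw [vz_eq (over_mem B hv₁ hU), val, RingHom.comp_apply] at hζ₁
    exact (Scheme.ΓSpecIso (CommRingCat.of k)).commRingCatIsoToRingEquiv.injective (hζ₁.trans (map_one _).symm)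
  let Q : Red.Gm (St k) ⟶ G ⊗ X := lift l (toUnit _ ≫ y)
  have hgQ : ∀ {T' : Over (St k)} (g : T' ⟶ Red.Gm (St k)), g ≫ Q = lift (g ≫ l) (toUnit T' ≫ y) := fun {T'} g => by
    rw [comp_lift, ← Category.assoc g, toUnit_unique (g ≫ toUnit (Red.Gm (St k))) (toUnit T')]
  have hQO : ∀ {T' : Over (St k)} (g : T' ⟶ Red.Gm (St k)),
      ⊤ ≤ (g ≫ Q).left ⁻¹ᵁ (a.act.left ⁻¹ᵁ U ⊓ (snd G X).left ⁻¹ᵁ U) := fun {T'} g z _ => by
    constructor
    · change ((g ≫ Q) ≫ a.act).left z ∈ U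
      rw [hgQ, hy T' (toUnit T') g, Over.comp_left, Scheme.Hom.comp_apply]
      exact hU trivial
    · change ((g ≫ Q) ≫ snd G X).left z ∈ U
      rw [hgQ, lift_snd, Over.comp_left, Scheme.Hom.comp_apply]
      exact hU trivial
  have hQ : ⊤ ≤ Q.left ⁻¹ᵁ (a.act.left ⁻¹ᵁ U ⊓ (snd G X).left ⁻¹ᵁ U) := by
    have := hQO (𝟙 (Red.Gm (St k)))
    rwa [Category.id_comp] at this
  have key : ∀ {T' : Over (St k)} (g : T' ⟶ Red.Gm (St k)) (v : T' ⟶ B.V) (hv : v ≫ B.π = toUnit T' ≫ y)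
      (hgv : ⊤ ≤ (lift (g ≫ l) v ≫ B.lift.act).left ⁻¹ᵁ (B.π.left ⁻¹ᵁ U)) (hvU : ⊤ ≤ v.left ⁻¹ᵁ (B.π.left ⁻¹ᵁ U)),
      ev (lift (g ≫ l) v ≫ B.lift.act) hgv ζ = g.left.appTop (ev Q hQ c) * ev v hvU ζ := by
    intro T' g v hv hgv hvU
    have e : lift (g ≫ l) (v ≫ B.π) = g ≫ Q := by rw [hgQ, hv]
    rw [hc T' (g ≫ l) v (by rw [e]; exact hQO g) hgv hvU, ev_congr e _ (hQO g), ev_comp g Q hQ c]
  have hland : ∀ {T' : Over (St k)} (v : T' ⟶ B.V), v ≫ B.π = toUnit T' ≫ y →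
      ⊤ ≤ v.left ⁻¹ᵁ (B.π.left ⁻¹ᵁ U) := fun v hv => over_mem B hv fun z _ => hU trivial
  have hfix : ∀ {T' : Over (St k)} (g : T' ⟶ Red.Gm (St k)) (v : T' ⟶ B.V), v ≫ B.π = toUnit T' ≫ y →
      (lift (g ≫ l) v ≫ B.lift.act) ≫ B.π = toUnit T' ≫ y := fun g v hv => by
    rw [act_π, hv]; exact hy _ _ g
  have hunit : IsUnit (ev Q hQ c) := by
    let w₀ : Red.Gm (St k) ⟶ B.V := toUnit _ ≫ v₁
    have hw₀ : w₀ ≫ B.π = toUnit (Red.Gm (St k)) ≫ y := by rw [Category.assoc, hv₁]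
    have hw₁ : ev w₀ (hland w₀ hw₀) ζ = 1 := by
      rw [← ev_comp (toUnit (Red.Gm (St k))) v₁ (over_mem B hv₁ hU) ζ, hζ₁', map_one]
    let i₀ : Red.Gm (St k) ⟶ Red.Gm (St k) := (𝟙 _)⁻¹
    let v' := lift (i₀ ≫ l) w₀ ≫ B.lift.act
    have hv' : v' ≫ B.π = toUnit _ ≫ y := hfix i₀ w₀ hw₀
    have e1 := key i₀ w₀ hw₀ (hland _ hv') (hland w₀ hw₀)
    have e2 := key (𝟙 _) v' hv' (hland _ (hfix _ _ hv')) (hland _ hv')
    have e3 : lift (𝟙 _ ≫ l) v' ≫ B.lift.act = w₀ := by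
      rw [← Mu99.act_mul, ← MonObj.mul_comp, mul_inv_cancel, MonObj.one_comp, Mu99.act_one]
    rw [ev_congr e3 _ (hland w₀ hw₀), hw₁, e1, hw₁, _root_.mul_one] at e2
    simp only [Over.id_left, Scheme.Hom.id_appTop] at e2
    exact IsUnit.of_mul_eq_one _ e2.symm
  have hone : gv (1 : Pt k ⟶ Red.Gm (St k)) (ev Q hQ c) = 1 := by
    have hv1 : v₁ ≫ B.π = toUnit (Pt k) ≫ y := by
      rw [hv₁, toUnit_unique (toUnit (Pt k)) (𝟙 _), Category.id_comp]
    have e := key (1 : Pt k ⟶ _) v₁ hv1 (hland _ (hfix _ _ hv1)) (over_mem B hv₁ hU)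
    rw [ev_congr (show lift ((1 : Pt k ⟶ _) ≫ l) v₁ ≫ B.lift.act = v₁ by rw [MonObj.one_comp, Mu99.act_one]) _
      (over_mem B hv₁ hU), hζ₁', _root_.mul_one] at e
    exact (congrArg (Scheme.ΓSpecIso (CommRingCat.of k)).hom e).symm.trans (map_one _)
  obtain ⟨w, hw⟩ := exists_zpow hunit hone
  refine ⟨w, hy, U, ζ, hζ, top_le_iff.mp hU, fun T' t g v hv hgv => ?_⟩
  obtain rfl : t = toUnit T' := toUnit_unique _ _
  rw [← hw T' g]
  exact key g v hv _ _

theorem fibreWeight_vz {y : Pt k ⟶ X} {w : ℤ} (hw : HMNum.HasFibreWeight B l y w) {U : X.left.Opens}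
    {ζ : Γ(B.V.left, B.π.left ⁻¹ᵁ U)} (hζ : ζ ∈ B.atlas.chart U) (hU : ⊤ ≤ y.left ⁻¹ᵁ U) (u : kˣ)
    (v : Pt k ⟶ B.V) (hv : v ≫ B.π = y) :
    vz (lift (gpt u ≫ l) v ≫ B.lift.act) ζ = (u : k) ^ w * vz v ζ := by
  obtain ⟨hfix, U₀, ζ₀, hζ₀, hU₀, h⟩ := hw
  obtain ⟨b, -, hb⟩ := exists_chart_change B hζ₀ hζ y hU₀.ge hU
  have hgv : (lift (gpt u ≫ l) v ≫ B.lift.act) ≫ B.π = y := by
    rw [act_π, hv]
    have := hfix (Pt k) (𝟙 _) (gpt u)
    rwa [Category.id_comp] at this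
  have h0 := congrArg (Scheme.ΓSpecIso (CommRingCat.of k)).hom
    (h (Pt k) (𝟙 _) (gpt u) v (by rw [hv, Category.id_comp]) (by rw [hgv, Category.id_comp]))
  rw [map_mul] at h0
  have h1 : vz (lift (gpt u ≫ l) v ≫ B.lift.act) ζ₀ = (u : k) ^ w * vz v ζ₀ := by
    rw [vz_eq (over_mem B hgv hU₀.ge), vz_eq (over_mem B hv hU₀.ge)]
    refine h0.trans (congrArg₂ (· * ·) ?_ rfl)
    have h2 := congrArg Units.val (map_zpow (Units.map ((Scheme.ΓSpecIso (CommRingCat.of k)).hom.hom.toMonoidHom))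
      (GmPts.unitOfPt (gpt u)) w)
    rw [Units.val_zpow_eq_zpow_val] at h2
    refine h2.trans (congrArg (· ^ w) ?_)
    exact (congrArg (Scheme.ΓSpecIso (CommRingCat.of k)).hom (gpt_fn u)).trans (Iso.inv_hom_id_apply _ _)
  rw [hb _ hgv, hb _ hv, h1]
  ring

theorem fibreWeight_unique [Infinite k] {y : Pt k ⟶ X} {w w' : ℤ} (hw : HMNum.HasFibreWeight B l y w)
    (hw' : HMNum.HasFibreWeight B l y w') : w = w' := by
  obtain ⟨U, ζ, hζ, hU⟩ := exists_chart_at B y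
  obtain ⟨v, hv, hv1⟩ := exists_over B hζ y hU
  refine zpow_left_injective_field (k := k) fun u => ?_
  have h := (fibreWeight_vz B l hw hζ hU u v hv).symm.trans (fibreWeight_vz B l hw' hζ hU u v hv)
  rwa [hv1, _root_.mul_one, _root_.mul_one] at h

end Groth.Agent.GIT36.Mu
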